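import Mathlib.RingTheory.Valuation.Basic
import Mathlib.FieldTheory.Galois.Infinite
import Mathlib.RingTheory.RootsOfUnity.PrimitiveRoots
import Mathlib.RingTheory.Polynomial.Cyclotomic.Basic
import Mathlib.Algebra.Ring.GeomSum

/-!
# The tame relation, via valuations

`v` is a valuation of `Ω` preserved by `G = Aut_K(Ω)`, `ℓ` is a number with `v ℓ = 1`, `σ` acts trivially on
the residue field of `v`.  If `σ` has `ℓ`-power order modulo a closed subgroup `N`, then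
`g σ g⁻¹ ≡ σ ^ u` modulo `N` as soon as `g ζ = ζ ^ u` and `g σ g⁻¹ σ^{-u}` has `ℓ`-power order modulo `N`.
-/

set_option autoImplicit false
set_option linter.unusedSectionVars false

namespace Groth.Agent.Sga7.H743.TameVal

variable {K Ω Γ : Type*} [Field K] [Field Ω] [Algebra K Ω] [LinearOrderedCommGroupWithZero Γ]
  (v : Valuation Ω Γ)

/-- `σ` acts trivially on the residue field of `v`. -/
def Inert (σ : Ω ≃ₐ[K] Ω) : Prop := ∀ x : Ω, v x ≤ 1 → v (σ x - x) < 1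

section ru

variable {v}

theorem val_eq_one_of_pow_eq_one {x : Ω} {n : ℕ} (hn : n ≠ 0) (h : x ^ n = 1) : v x = 1 := by
  have h1 : v x ^ n = 1 := by rw [← map_pow, h, map_one]
  exact (pow_eq_one_iff.1 h1).resolve_right hn

theorem val_sub_pow_lt {x : Ω} (hx : v (x - 1) < 1) (i : ℕ) : v (x ^ i - 1) < 1 := by
  have h0 : v x ≤ 1 := by
    have h1 : x = (x - 1) + 1 := by ring
    rw [h1]
    exact (v.map_add _ _).trans (max_le hx.le (by rw [map_one]))
  induction i with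
  | zero => simp
  | succ i ih =>
    have h2 : x ^ (i + 1) - 1 = x ^ i * (x - 1) + (x ^ i - 1) := by ring
    rw [h2]
    refine v.map_add_lt ?_ ih
    rw [map_mul, map_pow]
    calc v x ^ i * v (x - 1) ≤ 1 * v (x - 1) := by
          gcongr
          exact pow_le_one' h0 i
      _ < 1 := by rwa [one_mul]

/-- A root of unity of order prime to the residue characteristic which is residually trivial is trivial. -/
theorem eq_one_of_pow_eq_one {ℓ : ℕ} (hℓ : v (ℓ : Ω) = 1) {m : ℕ} {x : Ω} (hx : x ^ ℓ ^ m = 1)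
    (h : v (x - 1) < 1) : x = 1 := by
  induction m generalizing x with
  | zero => simpa using hx
  | succ m ih =>
    have h1 : x ^ ℓ = 1 := by
      apply ih (x := x ^ ℓ)
      · rw [← pow_mul, ← pow_succ', hx]
      · exact val_sub_pow_lt h ℓ
    by_contra hne
    have h2 : (∑ i ∈ Finset.range ℓ, x ^ i) = 0 := by
      have h3 := mul_geom_sum x ℓ
      rw [h1, sub_self] at h3
      exact (mul_eq_zero.1 h3).resolve_left (sub_ne_zero.2 hne)
    have h4 : (ℓ : Ω) = - ∑ i ∈ Finset.range ℓ, (x ^ i - 1) := by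
      rw [Finset.sum_sub_distrib, h2]
      simp
    have h5 : v (ℓ : Ω) < 1 := by
      rw [h4, Valuation.map_neg]
      exact v.map_sum_lt one_ne_zero (fun i _ => val_sub_pow_lt h i)
    exact absurd hℓ h5.ne

/-- A residual `n`-th root of unity is congruent to a power of a primitive `n`-th root of unity. -/
theorem exists_pow_congr {n : ℕ} (hn : 0 < n) {ζ : Ω} (hζ : IsPrimitiveRoot ζ n) {x : Ω}
    (hx : v (x ^ n - 1) < 1) : ∃ c : ℕ, v (x - ζ ^ c) < 1 := by
  have h1 := congrArg (Polynomial.eval x) (Polynomial.X_pow_sub_one_eq_prod hn hζ)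
  rw [Polynomial.eval_prod] at h1
  simp only [Polynomial.eval_sub, Polynomial.eval_pow, Polynomial.eval_X, Polynomial.eval_one,
    Polynomial.eval_C] at h1
  rw [h1, map_prod] at hx
  by_contra hcon
  push Not at hcon
  refine absurd hx (not_lt.2 ?_)
  apply Finset.one_le_prod'
  intro ξ hξ
  have h2 : ξ ^ n = 1 := (Polynomial.mem_nthRootsFinset hn 1).1 hξ
  have : NeZero n := ⟨hn.ne'⟩
  obtain ⟨c, -, rfl⟩ := hζ.eq_pow_of_pow_eq_one h2
  exact hcon c

end ru

section act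

variable {v} (hv : ∀ (g : Ω ≃ₐ[K] Ω) (x : Ω), v (g x) = v x)
include hv

theorem inert_scale {σ : Ω ≃ₐ[K] Ω} (hσ : Inert v σ) {c z w : Ω} (hz : z ≠ 0) (hwz : v w = v z)
    (h : v (σ z - c * z) < v z) : v (σ w - c * w) < v w := by
  have hvz : v z ≠ 0 := (Valuation.ne_zero_iff v).2 hz
  have h1 : v (w / z) = 1 := by rw [map_div₀, hwz, div_self hvz]
  have hw : w = (w / z) * z := by rw [div_mul_cancel₀ _ hz]
  have h2 : σ w - c * w = (σ (w / z) - w / z) * σ z + (w / z) * (σ z - c * z) := by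
    conv_lhs => rw [hw]
    rw [map_mul]
    ring
  rw [h2, hwz]
  refine v.map_add_lt ?_ ?_
  · rw [map_mul, hv]
    have h3 := hσ (w / z) h1.le
    calc v (σ (w / z) - w / z) * v z < 1 * v z := by
          exact mul_lt_mul_of_pos_right h3 (zero_lt_iff.2 hvz)
      _ = v z := one_mul _
  · rw [map_mul, h1, one_mul]
    exact h

theorem inert_pow {σ : Ω ≃ₐ[K] Ω} (hσ : Inert v σ) {c z : Ω} (hz : z ≠ 0) (hc : v c ≤ 1)
    (h : v (σ z - c * z) < v z) (j : ℕ) : v ((σ ^ j) z - c ^ j * z) < v z := by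
  have hvz : v z ≠ 0 := (Valuation.ne_zero_iff v).2 hz
  induction j with
  | zero =>
    simp only [pow_zero, one_mul, AlgEquiv.one_apply, sub_self, map_zero]
    exact zero_lt_iff.2 hvz
  | succ j ih =>
    have h1 : (σ ^ (j + 1)) z - c ^ (j + 1) * z =
        σ ((σ ^ j) z - c ^ j * z) + ((σ (c ^ j) - c ^ j) * σ z + c ^ j * (σ z - c * z)) := by
      rw [pow_succ', AlgEquiv.mul_apply, map_sub, map_mul]
      ring
    rw [h1]
    have hcj : v (c ^ j) ≤ 1 := by
      rw [map_pow]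
      exact pow_le_one' hc j
    refine v.map_add_lt ?_ (v.map_add_lt ?_ ?_)
    · rw [hv]
      exact ih
    · rw [map_mul, hv]
      calc v (σ (c ^ j) - c ^ j) * v z < 1 * v z :=
            mul_lt_mul_of_pos_right (hσ _ hcj) (zero_lt_iff.2 hvz)
        _ = v z := one_mul _
    · rw [map_mul]
      calc v (c ^ j) * v (σ z - c * z) ≤ 1 * v (σ z - c * z) := by gcongr
        _ < v z := by rwa [one_mul]

theorem conj_congr {σ g : Ω ≃ₐ[K] Ω} (hσ : Inert v σ) {ζ z : Ω} {c u : ℕ} (hz : z ≠ 0)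
    (hg : g ζ = ζ ^ u) (h : v (σ z - ζ ^ c * z) < v z) :
    v ((g * σ * g⁻¹) z - (ζ ^ c) ^ u * z) < v z := by
  have h1 : v (g⁻¹ z) = v z := hv _ _
  have h2 := inert_scale hv hσ hz h1 h
  have h3 : (g * σ * g⁻¹) z - (ζ ^ c) ^ u * z = g (σ (g⁻¹ z) - ζ ^ c * g⁻¹ z) := by
    rw [map_sub, map_mul, map_pow, hg, ← pow_mul, ← pow_mul, mul_comm u c]
    rw [AlgEquiv.mul_apply, AlgEquiv.mul_apply]
    congr 2
    change z = g (g.symm z)
    rw [AlgEquiv.apply_symm_apply]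
  rw [h3, hv]
  rwa [h1] at h2

/-- The tame relation on one element. -/
theorem tame_congr {σ g : Ω ≃ₐ[K] Ω} (hσ : Inert v σ) {ζ z : Ω} {c u : ℕ} (hz : z ≠ 0)
    (hζ : v ζ = 1) (hg : g ζ = ζ ^ u) (h : v (σ z - ζ ^ c * z) < v z) :
    v ((g * σ * g⁻¹ * (σ ^ u)⁻¹) z - z) < v z := by
  set w := (σ ^ u)⁻¹ z with hw
  have hwz : v w = v z := hv _ _
  have hw0 : w ≠ 0 := by
    rw [← Valuation.ne_zero_iff v, hwz]
    exact (Valuation.ne_zero_iff v).2 hz
  have hzw : z = (σ ^ u) w := by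
    rw [hw]
    change z = (σ ^ u) ((σ ^ u).symm z)
    rw [AlgEquiv.apply_symm_apply]
  have h0 := inert_scale hv hσ hz hwz h
  have h1 := inert_pow hv hσ hw0 (by rw [map_pow, hζ, one_pow]) h0 u
  have h2 := conj_congr hv hσ hw0 hg h0
  have h3 : (g * σ * g⁻¹ * (σ ^ u)⁻¹) z - z =
      ((g * σ * g⁻¹) w - (ζ ^ c) ^ u * w) - ((σ ^ u) w - (ζ ^ c) ^ u * w) := by
    rw [← hzw, AlgEquiv.mul_apply _ ((σ ^ u)⁻¹), ← hw]
    ring
  rw [h3, ← hwz]
  exact v.map_sub_lt h2 h1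

/-- An automorphism of `ℓ`-power order of a subspace that acts trivially on the graded pieces is trivial. -/
theorem wild_step {τ : Ω ≃ₐ[K] Ω} {ℓ : ℕ} (hℓ : v (ℓ : Ω) = 1) (L : AddSubgroup Ω)
    (hL : ∀ z ∈ L, τ z ∈ L) (hτ : ∀ z ∈ L, z ≠ 0 → v (τ z - z) < v z)
    (hp : ∀ z ∈ L, (τ ^ ℓ) z = z) : ∀ z ∈ L, τ z = z := by
  intro z hz
  have hpowL : ∀ (i : ℕ) (y : Ω), y ∈ L → (τ ^ i) y ∈ L := by
    intro i
    induction i with
    | zero => intro y hy; exact hy
    | succ i ih =>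
      intro y hy
      rw [pow_succ', AlgEquiv.mul_apply]
      exact hL _ (ih y hy)
  have hpow : ∀ (i : ℕ) (y : Ω), y ∈ L → y ≠ 0 → v ((τ ^ i) y - y) < v y := by
    intro i y hy hy0
    have hvy : v y ≠ 0 := (Valuation.ne_zero_iff v).2 hy0
    induction i with
    | zero =>
      simp only [pow_zero, AlgEquiv.one_apply, sub_self, map_zero]
      exact zero_lt_iff.2 hvy
    | succ i ih =>
      have h1 : (τ ^ (i + 1)) y - y = (τ ((τ ^ i) y) - (τ ^ i) y) + ((τ ^ i) y - y) := by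
        rw [pow_succ', AlgEquiv.mul_apply]
        ring
      rw [h1]
      refine v.map_add_lt ?_ ih
      have h2 : v ((τ ^ i) y) = v y := hv _ _
      rw [← h2]
      apply hτ _ (hpowL i y hy)
      rw [← Valuation.ne_zero_iff v, h2]
      exact hvy
  have hshift : ∀ y ∈ L, τ (∑ i ∈ Finset.range ℓ, (τ ^ i) y) = ∑ i ∈ Finset.range ℓ, (τ ^ i) y := by
    intro y hy
    rw [map_sum]
    have h1 : ∀ i, τ ((τ ^ i) y) = (τ ^ (i + 1)) y := fun i => by rw [pow_succ', AlgEquiv.mul_apply]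
    simp_rw [h1]
    have h2 := Finset.sum_range_succ' (fun i => (τ ^ i) y) ℓ
    have h3 := Finset.sum_range_succ (fun i => (τ ^ i) y) ℓ
    rw [h2] at h3
    rw [hp y hy] at h3
    simp only [pow_zero, AlgEquiv.one_apply] at h3
    exact add_right_cancel h3
  set S : Ω := ∑ i ∈ Finset.range ℓ, (τ ^ i) z with hS
  have hSL : S ∈ L := L.sum_mem fun i _ => hpowL i z hz
  set y : Ω := ℓ • z - S with hy
  have hyL : y ∈ L := L.sub_mem (L.nsmul_mem hz ℓ) hSL
  have hτS : τ S = S := hshift z hz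
  have hτiS : ∀ i : ℕ, (τ ^ i) S = S := by
    intro i
    induction i with
    | zero => rfl
    | succ i ih => rw [pow_succ', AlgEquiv.mul_apply, ih, hτS]
  have hsum : ∑ i ∈ Finset.range ℓ, (τ ^ i) y = 0 := by
    have h1 : ∀ i ∈ Finset.range ℓ, (τ ^ i) y = ℓ • (τ ^ i) z - S := by
      intro i _
      rw [hy, map_sub, map_nsmul, hτiS]
    rw [Finset.sum_congr rfl h1, Finset.sum_sub_distrib, ← Finset.smul_sum, ← hS]
    simp
  have hy0 : y = 0 := by
    by_contra hy0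
    have h1 : (ℓ : Ω) * y = - ∑ i ∈ Finset.range ℓ, ((τ ^ i) y - y) := by
      rw [Finset.sum_sub_distrib, hsum]
      simp
    have h2 : v ((ℓ : Ω) * y) < v y := by
      rw [h1, Valuation.map_neg]
      exact v.map_sum_lt ((Valuation.ne_zero_iff v).2 hy0) (fun i _ => hpow i y hyL hy0)
    rw [map_mul, hℓ, one_mul] at h2
    exact lt_irrefl _ h2
  have h3 : ℓ • z = S := sub_eq_zero.1 hy0
  have h4 : ℓ • τ z = ℓ • z := by rw [← map_nsmul, h3, hτS]
  have hℓ0 : (ℓ : Ω) ≠ 0 := by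
    rw [← Valuation.ne_zero_iff v, hℓ]
    exact one_ne_zero
  rw [nsmul_eq_mul, nsmul_eq_mul] at h4
  exact mul_left_cancel₀ hℓ0 h4

theorem wild_trivial {τ : Ω ≃ₐ[K] Ω} {ℓ : ℕ} (hℓ : v (ℓ : Ω) = 1) (L : AddSubgroup Ω)
    (hL : ∀ z ∈ L, τ z ∈ L) (hτ : ∀ z ∈ L, z ≠ 0 → v (τ z - z) < v z) (b : ℕ)
    (hp : ∀ z ∈ L, (τ ^ ℓ ^ b) z = z) : ∀ z ∈ L, τ z = z := by
  have hpowL : ∀ (i : ℕ) (y : Ω), y ∈ L → (τ ^ i) y ∈ L := by
    intro i
    induction i with
    | zero => intro y hy; exact hy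
    | succ i ih =>
      intro y hy
      rw [pow_succ', AlgEquiv.mul_apply]
      exact hL _ (ih y hy)
  have hpow : ∀ (i : ℕ) (y : Ω), y ∈ L → y ≠ 0 → v ((τ ^ i) y - y) < v y := by
    intro i y hy hy0
    have hvy : v y ≠ 0 := (Valuation.ne_zero_iff v).2 hy0
    induction i with
    | zero =>
      simp only [pow_zero, AlgEquiv.one_apply, sub_self, map_zero]
      exact zero_lt_iff.2 hvy
    | succ i ih =>
      have h1 : (τ ^ (i + 1)) y - y = (τ ((τ ^ i) y) - (τ ^ i) y) + ((τ ^ i) y - y) := by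
        rw [pow_succ', AlgEquiv.mul_apply]
        ring
      rw [h1]
      refine v.map_add_lt ?_ ih
      have h2 : v ((τ ^ i) y) = v y := hv _ _
      rw [← h2]
      apply hτ _ (hpowL i y hy)
      rw [← Valuation.ne_zero_iff v, h2]
      exact hvy
  induction b with
  | zero => simpa using hp
  | succ b ih =>
    apply ih
    apply wild_step hv hℓ L (τ := τ ^ ℓ ^ b) (hpowL _) (hpow _)
    intro z hz
    rw [← pow_mul, ← pow_succ]
    exact hp z hz

/-- The tame relation modulo a closed subgroup. -/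
theorem tame_mem (N : Subgroup (Ω ≃ₐ[K] Ω))
    (hNc : (IntermediateField.fixedField N).fixingSubgroup = N)
    {σ g : Ω ≃ₐ[K] Ω} (hσ : Inert v σ) {ℓ : ℕ} (hℓ0 : 0 < ℓ) (hℓ : v (ℓ : Ω) = 1) (a b u : ℕ) {ζ : Ω}
    (hζ : IsPrimitiveRoot ζ (ℓ ^ a)) (hg : g ζ = ζ ^ u)
    (hσa : σ ^ ℓ ^ a ∈ N)
    (hτN : ∀ n ∈ N, (g * σ * g⁻¹ * (σ ^ u)⁻¹)⁻¹ * n * (g * σ * g⁻¹ * (σ ^ u)⁻¹) ∈ N)
    (hτb : (g * σ * g⁻¹ * (σ ^ u)⁻¹) ^ ℓ ^ b ∈ N) :
    g * σ * g⁻¹ * (σ ^ u)⁻¹ ∈ N := by
  set τ := g * σ * g⁻¹ * (σ ^ u)⁻¹ with hτ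
  have hfix : ∀ n ∈ N, ∀ z ∈ (IntermediateField.fixedField N), n z = z := by
    intro n hn z hz
    rw [IntermediateField.mem_fixedField_iff] at hz
    exact hz n hn
  have hstab : ∀ z ∈ (IntermediateField.fixedField N), τ z ∈ (IntermediateField.fixedField N) := by
    intro z hz
    rw [IntermediateField.mem_fixedField_iff]
    intro n hn
    have h1 := hfix _ (hτN n hn) z hz
    have h2 : n * τ = τ * (τ⁻¹ * n * τ) := by group
    have h3 : n (τ z) = τ ((τ⁻¹ * n * τ) z) := DFunLike.congr_fun h2 z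
    rw [h3, h1]
  have hζ1 : v ζ = 1 := val_eq_one_of_pow_eq_one (pow_pos hℓ0 a).ne' hζ.pow_eq_one
  have hcong : ∀ z ∈ (IntermediateField.fixedField N), z ≠ 0 → v (τ z - z) < v z := by
    intro z hz hz0
    have hvz : v z ≠ 0 := (Valuation.ne_zero_iff v).2 hz0
    set ε : Ω := σ z / z with hε
    have hεz : σ z - ε * z = 0 := by rw [hε, div_mul_cancel₀ _ hz0, sub_self]
    have hvε : v ε = 1 := by rw [hε, map_div₀, hv, div_self hvz]
    have h1 := inert_pow hv hσ hz0 hvε.le (by rw [hεz, map_zero]; exact zero_lt_iff.2 hvz) (ℓ ^ a)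
    rw [hfix _ hσa z hz] at h1
    have h2 : v (ε ^ ℓ ^ a - 1) < 1 := by
      have h3 : z - ε ^ ℓ ^ a * z = - ((ε ^ ℓ ^ a - 1) * z) := by ring
      rw [h3, Valuation.map_neg, map_mul] at h1
      by_contra hcon
      push Not at hcon
      have h4 : v z ≤ v (ε ^ ℓ ^ a - 1) * v z := by
        calc v z = 1 * v z := (one_mul _).symm
          _ ≤ v (ε ^ ℓ ^ a - 1) * v z := by gcongr
      exact absurd h1 (not_lt.2 h4)
    obtain ⟨c, hc⟩ := exists_pow_congr (pow_pos hℓ0 a) hζ h2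
    apply tame_congr hv hσ hz0 hζ1 hg (c := c)
    have h5 : σ z - ζ ^ c * z = (ε - ζ ^ c) * z := by
      have : σ z = ε * z := sub_eq_zero.1 hεz
      rw [this]
      ring
    rw [h5, map_mul]
    calc v (ε - ζ ^ c) * v z < 1 * v z := mul_lt_mul_of_pos_right hc (zero_lt_iff.2 hvz)
      _ = v z := one_mul _
  have hfin := wild_trivial hv hℓ (IntermediateField.fixedField N).toSubfield.toAddSubgroup hstab hcong b
    (fun z hz => hfix _ hτb z hz)
  rw [← hNc, IntermediateField.mem_fixingSubgroup_iff]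
  exact hfin

end act

end Groth.Agent.Sga7.H743.TameVal
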