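import Groth.Prelude.Def_SGA7a
import Groth.Agent.S1964
import Groth.Agent.Sga7.H743.TameVal
import Mathlib.RingTheory.DedekindDomain.IntegralClosure
import Mathlib.RingTheory.DiscreteValuationRing.TFAE
import Mathlib.FieldTheory.IsSepClosed
import Mathlib.RingTheory.LocalRing.ResidueField.Basic
import Mathlib.RingTheory.Valuation.LocalSubring

/-!
# Valuation rings of a separable closure over a henselian discrete valuation ring

They are stable under the Galois group, and the residue field of their trace on a finite subextension is
finite over the residue field.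
-/

set_option autoImplicit false
set_option linter.unusedSectionVars false

universe u

namespace Groth.Agent.Sga7.H743.HensVal

open IsLocalRing

section integral

variable (R K Ω : Type u) [CommRing R] [IsDomain R] [IsDiscreteValuationRing R] [HenselianLocalRing R]
  [Field K] [Algebra R K] [IsFractionRing R K] [Field Ω] [Algebra K Ω] [Algebra R Ω]
  [IsScalarTower R K Ω] [Algebra.IsSeparable K Ω]

include K in
theorem isIntegral_or_inv (x : Ω) : IsIntegral R x ∨ IsIntegral R x⁻¹ := by
  let L := IntermediateField.adjoin K {x}
  have hfd : FiniteDimensional K L :=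
    IntermediateField.adjoin.finiteDimensional (Algebra.IsSeparable.isIntegral K x)
  have hfr : IsFractionRing (integralClosure R L) L :=
    IsIntegralClosure.isFractionRing_of_finite_extension R K L _
  have hloc : IsLocalRing (integralClosure R L) :=
    (Groth.Agent.S1964.result R (integralClosure R L)).1.toIsLocalRing
  have := integralClosure.isDedekindDomain R K L
  have hval : ValuationRing (integralClosure R L) :=
    ((tfae_of_isNoetherianRing_of_isLocalRing_of_isDomain (R := integralClosure R L)).out 2 1).1 ‹_›
  let x' : L := ⟨x, IntermediateField.mem_adjoin_simple_self K x⟩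
  let f : L →ₐ[R] Ω := L.val.restrictScalars R
  rcases ValuationRing.isInteger_or_isInteger (integralClosure R L) x' with h | h
  · left
    obtain ⟨b, hb⟩ := h
    have h1 : IsIntegral R x' := by
      rw [← hb]
      exact b.2
    exact h1.map f
  · right
    obtain ⟨b, hb⟩ := h
    have h1 : IsIntegral R x'⁻¹ := by
      rw [← hb]
      exact b.2
    exact h1.map f

end integral

section mem

variable {R K Ω : Type u} [CommRing R] [IsDomain R] [IsDiscreteValuationRing R] [HenselianLocalRing R]
  [Field K] [Algebra R K] [IsFractionRing R K] [Field Ω] [Algebra K Ω] [Algebra.IsSeparable K Ω]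
  (W : ValuationSubring Ω) (hW : SGA7.LiesOver K R W)

theorem mem_of_isIntegral {R : Type u} [CommRing R] [Algebra R Ω]
    (h : ∀ r : R, algebraMap R Ω r ∈ W) {x : Ω} (hx : IsIntegral R x) : x ∈ W := by
  let _ : Algebra R W := ((algebraMap R Ω).codRestrict W.toSubring h).toAlgebra
  have : IsScalarTower R W Ω := IsScalarTower.of_algebraMap_eq fun r => rfl
  have h1 : IsIntegral W x := hx.tower_top
  obtain ⟨y, hy⟩ := IsIntegrallyClosed.algebraMap_eq_of_integral h1
  rw [← hy]
  exact y.2

include hW in
theorem map_mem (g : Ω ≃ₐ[K] Ω) {x : Ω} (hx : x ∈ W) : g x ∈ W := by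
  let _ : Algebra R Ω := ((algebraMap K Ω).comp (algebraMap R K)).toAlgebra
  have : IsScalarTower R K Ω := IsScalarTower.of_algebraMap_eq fun r => rfl
  have hint : ∀ y : Ω, IsIntegral R y → g y ∈ W := by
    intro y hy
    exact mem_of_isIntegral W hW.1 (hy.map (g.toAlgHom.restrictScalars R))
  rcases eq_or_ne x 0 with rfl | hx0
  · rw [map_zero]
    exact W.zero_mem
  rcases isIntegral_or_inv R K Ω x with h | h
  · exact hint x h
  · let b : integralClosure R Ω := ⟨x⁻¹, h⟩
    rcases Groth.Agent.S1964.isUnit_or_pow_mem R (integralClosure R Ω) b with hb | ⟨d, hd⟩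
    · obtain ⟨c, hc⟩ := hb.exists_right_inv
      have h1 : x = (c : Ω) := by
        have h2 := congrArg (Subtype.val) hc
        have h3 : x⁻¹ * (c : Ω) = 1 := h2
        rw [← mul_one x, ← h3, ← mul_assoc, mul_inv_cancel₀ hx0, one_mul]
      rw [h1]
      exact hint _ c.2
    · exfalso
      have h1 : ∀ y ∈ (IsLocalRing.maximalIdeal R).map (algebraMap R (integralClosure R Ω)),
          W.valuation (y : Ω) < 1 := by
        intro y hy
        induction hy using Submodule.span_induction with
        | mem y hy =>
          obtain ⟨r, hr, rfl⟩ := hy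
          exact hW.2 r hr
        | zero => simp
        | add a b _ _ ha hb => exact Valuation.map_add_lt _ ha hb
        | smul a b _ hb =>
          have h2 : W.valuation ((a • b : integralClosure R Ω) : Ω) =
              W.valuation (a : Ω) * W.valuation (b : Ω) := by
            rw [← map_mul]
            rfl
          rw [h2]
          have h3 : W.valuation (a : Ω) ≤ 1 :=
            (W.valuation_le_one_iff _).2 (mem_of_isIntegral W hW.1 a.2)
          calc W.valuation (a : Ω) * W.valuation (b : Ω) ≤ 1 * W.valuation (b : Ω) := by gcongr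
            _ < 1 := by rwa [one_mul]
      have h2 := h1 _ hd
      have h3 : W.valuation ((b ^ d : integralClosure R Ω) : Ω) = (W.valuation x)⁻¹ ^ d := by
        rw [← map_inv₀, ← map_pow]
        rfl
      rw [h3] at h2
      have h4 : 1 ≤ (W.valuation x)⁻¹ := by
        have h5 : W.valuation x ≤ 1 := (W.valuation_le_one_iff _).2 hx
        exact (one_le_inv₀ (zero_lt_iff.2 ((Valuation.ne_zero_iff _).2 hx0))).2 h5
      exact absurd h2 (not_lt.2 (one_le_pow_of_one_le' h4 d))

theorem val_map_le (hmem : ∀ (g : Ω ≃ₐ[K] Ω) (x : Ω), x ∈ W → g x ∈ W) (g : Ω ≃ₐ[K] Ω) {x y : Ω}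
    (h : W.valuation x ≤ W.valuation y) : W.valuation (g x) ≤ W.valuation (g y) := by
  rw [ValuationSubring.valuation_le_iff] at h ⊢
  obtain ⟨a, ha⟩ := h
  exact ⟨⟨g a, hmem g _ a.2⟩, by rw [← ha, map_mul]⟩

theorem val_map_lt (hmem : ∀ (g : Ω ≃ₐ[K] Ω) (x : Ω), x ∈ W → g x ∈ W) (g : Ω ≃ₐ[K] Ω) {x y : Ω}
    (h : W.valuation x < W.valuation y) : W.valuation (g x) < W.valuation (g y) := by
  by_contra hcon
  push Not at hcon
  have h1 := val_map_le W hmem g.symm hcon
  rw [AlgEquiv.symm_apply_apply, AlgEquiv.symm_apply_apply] at h1
  exact absurd h (not_lt.2 h1)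

theorem not_val_lt_map (hmem : ∀ (g : Ω ≃ₐ[K] Ω) (x : Ω), x ∈ W → g x ∈ W) (g : Ω ≃ₐ[K] Ω) (x : Ω) :
    ¬ W.valuation x < W.valuation (g x) := by
  intro h
  have hmono : StrictMono fun n : ℕ => W.valuation ((g ^ n) x) := by
    apply strictMono_nat_of_lt_succ
    intro n
    have h1 := val_map_lt W hmem (g ^ n) h
    rw [pow_succ]
    exact h1
  have hx : IsIntegral K x := Algebra.IsSeparable.isIntegral K x
  have hroot : ∀ n : ℕ, (g ^ n) x ∈ (minpoly K x).rootSet Ω := by
    intro n
    rw [Polynomial.mem_rootSet]
    refine ⟨minpoly.ne_zero hx, ?_⟩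
    rw [Polynomial.aeval_algHom_apply (g ^ n : Ω ≃ₐ[K] Ω) x, minpoly.aeval, map_zero]
  have hfin : Finite ((minpoly K x).rootSet Ω) := (Polynomial.rootSet_finite _ _)
  obtain ⟨i, j, hij, h2⟩ := Finite.exists_ne_map_eq_of_infinite
    (fun n : ℕ => (⟨(g ^ n) x, hroot n⟩ : (minpoly K x).rootSet Ω))
  exact hij (hmono.injective (congrArg W.valuation (congrArg Subtype.val h2)))

theorem val_map_eq (hmem : ∀ (g : Ω ≃ₐ[K] Ω) (x : Ω), x ∈ W → g x ∈ W) (g : Ω ≃ₐ[K] Ω) (x : Ω) :
    W.valuation (g x) = W.valuation x := by
  apply le_antisymm
  · exact not_lt.1 (not_val_lt_map W hmem g x)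
  · have h1 := not_lt.1 (not_val_lt_map W hmem g.symm (g x))
    rwa [AlgEquiv.symm_apply_apply] at h1

include hW in
theorem val_map (g : Ω ≃ₐ[K] Ω) (x : Ω) : W.valuation (g x) = W.valuation x :=
  val_map_eq W (fun g _ hx => map_mem W hW g hx) g x

end mem

section residue

variable {R K L : Type u} [CommRing R] [IsDomain R] [IsDiscreteValuationRing R]
  [Field K] [Algebra R K] [IsFractionRing R K] [Field L] [Algebra K L] [FiniteDimensional K L]

/-- The residue field of a valuation ring of a finite extension dominating `R` is finite over that of `R`. -/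
theorem finite_residue (V : ValuationSubring L) (φ : R →+* V) [IsLocalHom φ]
    (hφ : ∀ r : R, (φ r : L) = algebraMap K L (algebraMap R K r)) :
    @FiniteDimensional (ResidueField R) (ResidueField V) _ _
      (ResidueField.map φ).toAlgebra.toModule := by
  let _ : Algebra (ResidueField R) (ResidueField V) := (ResidueField.map φ).toAlgebra
  let _ : Algebra R L := ((algebraMap K L).comp (algebraMap R K)).toAlgebra
  have : IsScalarTower R K L := IsScalarTower.of_algebraMap_eq fun r => rfl
  have hrank : Module.rank (ResidueField R) (ResidueField V) ≤ Module.finrank K L := by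
    apply rank_le
    intro s hs
    choose lift hlift using IsLocalRing.residue_surjective (R := V)
    have hK : LinearIndependent K (fun i : s => ((lift (i : ResidueField V) : V) : L)) := by
      rw [← LinearIndependent.iff_fractionRing R K, Fintype.linearIndependent_iff]
      intro c hc
      by_contra hne
      push Not at hne
      obtain ⟨i₀, hi₀⟩ := hne
      -- an index with minimal valuation
      have : Nonempty s := ⟨i₀⟩
      obtain ⟨j, hj⟩ : ∃ j : s, ∀ i : s, c j ∣ c i := by
        have key : ∀ t : Finset s, t.Nonempty → ∃ j : s, ∀ i ∈ t, c j ∣ c i := by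
          intro t ht
          induction ht using Finset.Nonempty.cons_induction with
          | singleton a => exact ⟨a, fun i hi => by rw [Finset.mem_singleton.1 hi]⟩
          | cons a t ha ht ih =>
            obtain ⟨j, hj⟩ := ih
            rcases ValuationRing.dvd_total (c j) (c a) with h | h
            · refine ⟨j, fun i hi => ?_⟩
              rcases Finset.mem_cons.1 hi with rfl | hi
              · exact h
              · exact hj i hi
            · refine ⟨a, fun i hi => ?_⟩
              rcases Finset.mem_cons.1 hi with rfl | hi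
              · exact dvd_rfl
              · exact h.trans (hj i hi)
        obtain ⟨j, hj⟩ := key Finset.univ Finset.univ_nonempty
        exact ⟨j, fun i => hj i (Finset.mem_univ i)⟩
      have hcj : c j ≠ 0 := fun h0 => hi₀ (zero_dvd_iff.1 (h0 ▸ hj i₀))
      choose d hd using hj
      have hdj : d j = 1 := by
        have h1 := hd j
        exact (mul_right_eq_self₀.1 h1.symm).resolve_right hcj
      have hsum : ∑ i : s, d i • ((lift (i : ResidueField V) : V) : L) = 0 := by
        have h1 : c j • ∑ i : s, d i • ((lift (i : ResidueField V) : V) : L) = 0 := by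
          rw [Finset.smul_sum, ← hc]
          refine Finset.sum_congr rfl fun i _ => ?_
          rw [smul_smul, ← hd i]
        rw [Algebra.smul_def] at h1
        refine (mul_eq_zero.1 h1).resolve_left ?_
        change algebraMap K L (algebraMap R K (c j)) ≠ 0
        rw [Ne, map_eq_zero, map_eq_zero_iff _ (IsFractionRing.injective R K)]
        exact hcj
      have hsumV : ∑ i : s, φ (d i) * lift (i : ResidueField V) = 0 := by
        apply Subtype.val_injective
        change V.subtype (∑ i : s, φ (d i) * lift (i : ResidueField V)) = V.subtype 0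
        rw [map_sum, map_zero, ← hsum]
        refine Finset.sum_congr rfl fun i _ => ?_
        rw [Algebra.smul_def, map_mul]
        change ((φ (d i) : V) : L) * _ = _
        rw [hφ]
        rfl
      have hsumk : ∑ i : s, residue R (d i) • (i : ResidueField V) = 0 := by
        have h1 := congrArg (residue V) hsumV
        rw [map_sum, map_zero] at h1
        rw [← h1]
        refine Finset.sum_congr rfl fun i _ => ?_
        rw [map_mul, hlift, Algebra.smul_def]
        rfl
      have h2 := Fintype.linearIndependent_iff.1 hs _ hsumk j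
      rw [hdj, map_one] at h2
      exact one_ne_zero h2
    have h1 := hK.fintype_card_le_finrank
    simpa using h1
  have hlt : Module.rank (ResidueField R) (ResidueField V) < Cardinal.aleph0 :=
    lt_of_le_of_lt hrank (Cardinal.natCast_lt_aleph0 (n := _))
  exact Module.rank_lt_aleph0_iff.1 hlt

end residue

end Groth.Agent.Sga7.H743.HensVal
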