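import Groth.Agent.Sga7.H743.PadicUnip
import Mathlib.Topology.Algebra.OpenSubgroup
import Mathlib.Analysis.Normed.Group.Ultra

/-!
# Congruence subgroups of `GLₙ(ℚ_p)` pulled back along a homomorphism
-/

set_option autoImplicit false
set_option linter.unusedSectionVars false

open Filter Topology

namespace Groth.Agent.Sga7.H743.MatGrp

variable {p : ℕ} [hp : Fact p.Prime] {ι : Type*} [Fintype ι] [DecidableEq ι]

/-- All entries have norm at most `r`. -/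
def Nle (r : ℝ) (M : Matrix ι ι ℚ_[p]) : Prop := ∀ i j, ‖M i j‖ ≤ r

theorem Nle.mono {r s : ℝ} (hrs : r ≤ s) {M : Matrix ι ι ℚ_[p]} (h : Nle r M) : Nle s M :=
  fun i j => (h i j).trans hrs

theorem Nle.mul {r s : ℝ} (hr : 0 ≤ r) (hs : 0 ≤ s) {M N : Matrix ι ι ℚ_[p]} (hM : Nle r M)
    (hN : Nle s N) : Nle (r * s) (M * N) := by
  intro i j
  rw [Matrix.mul_apply]
  apply IsUltrametricDist.norm_sum_le_of_forall_le_of_nonneg (mul_nonneg hr hs)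
  intro k _
  rw [norm_mul]
  exact mul_le_mul (hM i k) (hN k j) (norm_nonneg _) hr

theorem Nle.add {r : ℝ} {M N : Matrix ι ι ℚ_[p]} (hM : Nle r M) (hN : Nle r N) : Nle r (M + N) := by
  intro i j
  exact (IsUltrametricDist.norm_add_le_max _ _).trans (max_le (hM i j) (hN i j))

theorem Nle.neg {r : ℝ} {M : Matrix ι ι ℚ_[p]} (hM : Nle r M) : Nle r (-M) := by
  intro i j
  rw [Matrix.neg_apply, norm_neg]
  exact hM i j

theorem Nle.sub {r : ℝ} {M N : Matrix ι ι ℚ_[p]} (hM : Nle r M) (hN : Nle r N) : Nle r (M - N) := by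
  rw [sub_eq_add_neg]
  exact hM.add hN.neg

theorem nle_zero {r : ℝ} (hr : 0 ≤ r) : Nle r (0 : Matrix ι ι ℚ_[p]) := by
  intro i j
  rw [Matrix.zero_apply, norm_zero]
  exact hr

theorem nle_one : Nle 1 (1 : Matrix ι ι ℚ_[p]) := by
  intro i j
  rw [Matrix.one_apply]
  split_ifs <;> simp

theorem Nle.of_sub_one {r : ℝ} (hr : r ≤ 1) {M : Matrix ι ι ℚ_[p]} (h : Nle r (M - 1)) : Nle 1 M := by
  have h1 : M = (M - 1) + 1 := by abel
  rw [h1]
  exact (h.mono hr).add nle_one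

theorem nle_sum {r : ℝ} (hr : 0 ≤ r) {α : Type*} (s : Finset α) (f : α → Matrix ι ι ℚ_[p])
    (h : ∀ a ∈ s, Nle r (f a)) : Nle r (∑ a ∈ s, f a) := by
  induction s using Finset.cons_induction with
  | empty => simpa using nle_zero hr
  | cons a s ha ih =>
    rw [Finset.sum_cons]
    exact (h a (Finset.mem_cons_self a s)).add (ih fun b hb => h b (Finset.mem_cons_of_mem hb))

theorem Nle.pow_sub_one {r : ℝ} (hr0 : 0 ≤ r) (hr : r ≤ 1) {M : Matrix ι ι ℚ_[p]} (h : Nle r (M - 1))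
    (i : ℕ) : Nle r (M ^ i - 1) := by
  induction i with
  | zero =>
    rw [pow_zero, sub_self]
    exact nle_zero hr0
  | succ i ih =>
    have h1 : M ^ (i + 1) - 1 = M * (M ^ i - 1) + (M - 1) := by
      rw [pow_succ', mul_sub, mul_one]
      abel
    rw [h1]
    refine Nle.add ?_ h
    have h2 := (Nle.of_sub_one hr h).mul zero_le_one hr0 ih
    rwa [one_mul] at h2

/-- The `p`-th power improves congruences to `1`. -/
theorem Nle.pow_p {r : ℝ} (hr0 : 0 ≤ r) (hr : r ≤ (p : ℝ)⁻¹) {M : Matrix ι ι ℚ_[p]}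
    (h : Nle r (M - 1)) : Nle (r * (p : ℝ)⁻¹) (M ^ p - 1) := by
  have hp1 : (1 : ℝ) < p := by exact_mod_cast hp.out.one_lt
  have hp0 : (0 : ℝ) ≤ (p : ℝ)⁻¹ := by positivity
  have hr1 : r ≤ 1 := hr.trans (inv_lt_one_of_one_lt₀ hp1).le
  rw [← mul_geom_sum]
  refine Nle.mul hr0 hp0 h ?_
  have h1 : ∑ i ∈ Finset.range p, M ^ i = (p : Matrix ι ι ℚ_[p]) + ∑ i ∈ Finset.range p, (M ^ i - 1) := by
    rw [Finset.sum_sub_distrib]
    simp
  rw [h1]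
  refine Nle.add ?_ (nle_sum hp0 _ _ fun i _ => (h.pow_sub_one hr0 hr1 i).mono hr)
  intro i j
  rw [Matrix.natCast_apply]
  split_ifs
  · rw [Padic.norm_p]
  · rw [Nat.cast_zero, norm_zero]
    exact hp0

theorem Nle.pow_p_pow {r : ℝ} (hr0 : 0 ≤ r) (hr : r ≤ (p : ℝ)⁻¹) {M : Matrix ι ι ℚ_[p]}
    (h : Nle r (M - 1)) (b : ℕ) : Nle ((p : ℝ)⁻¹ ^ b) (M ^ p ^ b - 1) := by
  have hp1 : (1 : ℝ) < p := by exact_mod_cast hp.out.one_lt
  have hp0 : (0 : ℝ) < (p : ℝ)⁻¹ := by positivity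
  have hp1' : (p : ℝ)⁻¹ ≤ 1 := (inv_lt_one_of_one_lt₀ hp1).le
  suffices h1 : Nle ((p : ℝ)⁻¹ ^ (b + 1)) (M ^ p ^ b - 1) by
    refine h1.mono ?_
    exact pow_le_pow_of_le_one hp0.le hp1' (Nat.le_succ b)
  induction b with
  | zero =>
    simpa using h.mono hr
  | succ b ih =>
    have h2 := ih.pow_p (by positivity) (by
      rw [pow_succ]
      exact mul_le_of_le_one_left hp0.le (pow_le_one₀ hp0.le hp1'))
    rw [← pow_mul, ← pow_succ, ← pow_succ] at h2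
    exact h2

section subgroup

variable {G : Type*} [Group G] (ρ : G →* Matrix.GeneralLinearGroup ι ℚ_[p]) (G₁ : Subgroup G)
  (hG₁ : ∀ g ∈ G₁, Nle ((p : ℝ)⁻¹) ((ρ g : Matrix ι ι ℚ_[p]) - 1))

include hG₁ in
theorem nle_one_of_mem {g : G} (hg : g ∈ G₁) : Nle 1 (ρ g : Matrix ι ι ℚ_[p]) := by
  have hp1 : (1 : ℝ) < p := by exact_mod_cast hp.out.one_lt
  exact Nle.of_sub_one (inv_lt_one_of_one_lt₀ hp1).le (hG₁ g hg)

/-- The elements of `G₁` congruent to `1` up to `r`. -/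
def cong (r : ℝ) (hr : 0 ≤ r) : Subgroup G where
  carrier := {g | g ∈ G₁ ∧ Nle r ((ρ g : Matrix ι ι ℚ_[p]) - 1)}
  one_mem' := ⟨G₁.one_mem, by
    rw [map_one, Units.val_one, sub_self]
    exact nle_zero hr⟩
  mul_mem' := by
    rintro g h ⟨hg, hg'⟩ ⟨hh, hh'⟩
    refine ⟨G₁.mul_mem hg hh, ?_⟩
    have h1 : ((ρ (g * h) : Matrix.GeneralLinearGroup ι ℚ_[p]) : Matrix ι ι ℚ_[p]) - 1 =
        (ρ g : Matrix ι ι ℚ_[p]) * ((ρ h : Matrix ι ι ℚ_[p]) - 1) + ((ρ g : Matrix ι ι ℚ_[p]) - 1) := by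
      rw [map_mul, Units.val_mul, mul_sub, mul_one]
      abel
    rw [h1]
    refine Nle.add ?_ hg'
    have h2 := (nle_one_of_mem ρ G₁ hG₁ hg).mul zero_le_one hr hh'
    rwa [one_mul] at h2
  inv_mem' := by
    rintro g ⟨hg, hg'⟩
    refine ⟨G₁.inv_mem hg, ?_⟩
    have h1 : ((ρ g⁻¹ : Matrix.GeneralLinearGroup ι ℚ_[p]) : Matrix ι ι ℚ_[p]) - 1 =
        - ((ρ g⁻¹ : Matrix ι ι ℚ_[p]) * ((ρ g : Matrix ι ι ℚ_[p]) - 1)) := by
      rw [mul_sub, ← Units.val_mul, ← map_mul, inv_mul_cancel, map_one, Units.val_one, mul_one]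
      abel
    rw [h1]
    have h2 := (nle_one_of_mem ρ G₁ hG₁ (G₁.inv_mem hg)).mul zero_le_one hr hg'
    rw [one_mul] at h2
    exact h2.neg

theorem mem_cong {r : ℝ} {hr : 0 ≤ r} {g : G} :
    g ∈ cong ρ G₁ hG₁ r hr ↔ g ∈ G₁ ∧ Nle r ((ρ g : Matrix ι ι ℚ_[p]) - 1) := Iff.rfl

theorem conj_mem_cong {r : ℝ} {hr : 0 ≤ r} {g : G} (hg : g ∈ G₁) {n : G}
    (hn : n ∈ cong ρ G₁ hG₁ r hr) : g⁻¹ * n * g ∈ cong ρ G₁ hG₁ r hr := by
  obtain ⟨hn1, hn2⟩ := hn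
  refine ⟨G₁.mul_mem (G₁.mul_mem (G₁.inv_mem hg) hn1) hg, ?_⟩
  have h1 : ((ρ (g⁻¹ * n * g) : Matrix.GeneralLinearGroup ι ℚ_[p]) : Matrix ι ι ℚ_[p]) - 1 =
      (ρ g⁻¹ : Matrix ι ι ℚ_[p]) * ((ρ n : Matrix ι ι ℚ_[p]) - 1) * (ρ g : Matrix ι ι ℚ_[p]) := by
    rw [mul_sub, sub_mul, mul_one, ← Units.val_mul, ← Units.val_mul, ← Units.val_mul, ← map_mul, ← map_mul,
      ← map_mul, inv_mul_cancel, map_one, Units.val_one]
  rw [h1]
  have h2 := ((nle_one_of_mem ρ G₁ hG₁ (G₁.inv_mem hg)).mul zero_le_one hr hn2).mul (by simpa using hr)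
    zero_le_one (nle_one_of_mem ρ G₁ hG₁ hg)
  rwa [one_mul, mul_one] at h2

theorem pow_mem_cong {g : G} (hg : g ∈ G₁) (b : ℕ) :
    g ^ p ^ b ∈ cong ρ G₁ hG₁ ((p : ℝ)⁻¹ ^ b) (by positivity) := by
  refine ⟨G₁.pow_mem hg _, ?_⟩
  have h1 := (hG₁ g hg).pow_p_pow (by positivity) le_rfl b
  rw [map_pow, Units.val_pow_eq_pow_val]
  exact h1

variable [TopologicalSpace G] [IsTopologicalGroup G]

theorem isOpen_cong (hρ : Continuous ρ) (hG₁o : IsOpen (G₁ : Set G)) {r : ℝ} (hr : 0 < r) :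
    IsOpen (cong ρ G₁ hG₁ r hr.le : Set G) := by
  apply Subgroup.isOpen_of_mem_nhds (g := 1)
  have h1 : ∀ i j : ι, ∀ᶠ g in 𝓝 (1 : G), ‖((ρ g : Matrix ι ι ℚ_[p]) - 1) i j‖ < r := by
    intro i j
    have hc : Continuous fun g : G => ‖((ρ g : Matrix ι ι ℚ_[p]) - 1) i j‖ := by
      have h2 : Continuous fun g : G => (ρ g : Matrix ι ι ℚ_[p]) := Units.continuous_val.comp hρ
      exact ((h2.sub continuous_const).matrix_elem i j).norm
    have h3 : ‖((ρ (1 : G) : Matrix ι ι ℚ_[p]) - 1) i j‖ < r := by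
      rw [map_one, Units.val_one, sub_self, Matrix.zero_apply, norm_zero]
      exact hr
    exact hc.continuousAt.eventually_lt continuousAt_const h3
  have h2 : ∀ᶠ g in 𝓝 (1 : G), ∀ i j : ι, ‖((ρ g : Matrix ι ι ℚ_[p]) - 1) i j‖ < r := by
    rw [Filter.eventually_all]
    intro i
    rw [Filter.eventually_all]
    exact h1 i
  filter_upwards [h2, hG₁o.mem_nhds G₁.one_mem] with g hg hg1
  exact ⟨hg1, fun i j => (hg i j).le⟩

end subgroup

theorem tendsto_of_nle {l : Filter ℕ} {f : ℕ → Matrix ι ι ℚ_[p]} {B : Matrix ι ι ℚ_[p]}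
    (h : ∀ k : ℕ, ∀ᶠ N in l, Nle ((p : ℝ)⁻¹ ^ k) (B - f N)) : Tendsto f l (𝓝 B) := by
  have hp1 : (1 : ℝ) < p := by exact_mod_cast hp.out.one_lt
  have key : ∀ i j : ι, Tendsto (fun N => f N i j) l (𝓝 (B i j)) := by
    intro i j
    rw [Metric.tendsto_nhds]
    intro ε hε
    obtain ⟨k, hk⟩ := exists_pow_lt_of_lt_one hε (inv_lt_one_of_one_lt₀ hp1)
    filter_upwards [h k] with N hN
    rw [dist_comm, dist_eq_norm]
    exact (hN i j).trans_lt hk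
  exact tendsto_pi_nhds.2 fun i => tendsto_pi_nhds.2 fun j => key i j

end Groth.Agent.Sga7.H743.MatGrp
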