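import Groth.Agent.Sga7.H743.HensVal
import Groth.Agent.Sga7.H743.MatGrp
import Mathlib.NumberTheory.Cyclotomic.CyclotomicCharacter
import Mathlib.RingTheory.RootsOfUnity.AlgebraicallyClosed

/-!
# The local monodromy theorem for `λ`-adic representations
-/

set_option autoImplicit false
set_option linter.unusedSectionVars false

universe u

open Filter Topology

namespace Groth.Agent.Sga7.H743.Mono

open PadicUnip MatGrp

section chi

variable (K Ω : Type u) [Field K] [Field Ω] [Algebra K Ω] (p : ℕ) [hp : Fact p.Prime]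

/-- The cyclotomic character on `Aut_K(Ω)`. -/
noncomputable def chi : (Ω ≃ₐ[K] Ω) →* ℤ_[p]ˣ :=
  (cyclotomicCharacter Ω p).comp (MulSemiringAction.toRingAut (Ω ≃ₐ[K] Ω) Ω)

theorem continuous_chi : Continuous (chi K Ω p) := cyclotomicCharacter.continuous p K Ω

variable {K Ω p}

theorem chi_spec [∀ i, HasEnoughRootsOfUnity Ω (p ^ i)] (g : Ω ≃ₐ[K] Ω) {n N : ℕ} {t : Ω}
    (ht : t ^ p ^ n = 1) (hN : ‖(N : ℤ_[p]) - (chi K Ω p g : ℤ_[p])‖ ≤ (p : ℝ)⁻¹ ^ n) : g t = t ^ N := by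
  have h1 := cyclotomicCharacter.spec p (MulSemiringAction.toRingAut (Ω ≃ₐ[K] Ω) Ω g) t ht
  have h2 : PadicInt.toZModPow n (chi K Ω p g : ℤ_[p]) = (N : ZMod (p ^ n)) := by
    have h3 : (N : ℤ_[p]) - (chi K Ω p g : ℤ_[p]) ∈ (Ideal.span {(p : ℤ_[p]) ^ n} : Ideal ℤ_[p]) := by
      rw [← PadicInt.norm_le_pow_iff_mem_span_pow]
      refine hN.trans (le_of_eq ?_)
      rw [zpow_neg, zpow_natCast, inv_pow]
    rw [← PadicInt.ker_toZModPow, RingHom.mem_ker, map_sub, map_natCast, sub_eq_zero] at h3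
    exact h3.symm
  have h4 : g t = t ^ ((chi K Ω p g : ℤ_[p]).toZModPow n).val := h1
  rw [h4, h2, ZMod.val_natCast]
  exact (pow_eq_pow_mod N ht).symm

theorem chi_one_fix [∀ i, HasEnoughRootsOfUnity Ω (p ^ i)] (g : Ω ≃ₐ[K] Ω) {n : ℕ} {t : Ω}
    (ht : t ^ p ^ n = 1) (h : chi K Ω p g = 1) : g t = t := by
  have h1 := chi_spec g (N := 1) ht (by
    rw [h, Units.val_one, Nat.cast_one, sub_self, norm_zero]
    positivity)
  rwa [pow_one] at h1

end chi

section tend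

variable {K Ω : Type u} [Field K] [Field Ω] [Algebra K Ω] [IsGalois K Ω] {Γ : Type*}
  [LinearOrderedCommGroupWithZero Γ]
  {v : Valuation Ω Γ} (hv : ∀ (g : Ω ≃ₐ[K] Ω) (x : Ω), v (g x) = v x)
  {p : ℕ} [hp : Fact p.Prime] (hpv : v (p : Ω) = 1) [∀ i, HasEnoughRootsOfUnity Ω (p ^ i)]
  {ι : Type*} [Fintype ι] [DecidableEq ι]
  (ρ : (Ω ≃ₐ[K] Ω) →* Matrix.GeneralLinearGroup ι ℚ_[p]) (hρ : Continuous ρ)
  (G₁ : Subgroup (Ω ≃ₐ[K] Ω)) (hG₁o : IsOpen (G₁ : Set (Ω ≃ₐ[K] Ω)))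
  (hG₁ : ∀ g ∈ G₁, Nle ((p : ℝ)⁻¹) ((ρ g : Matrix ι ι ℚ_[p]) - 1))

include hv hpv hρ hG₁o hG₁ in
/-- `ρ(g) ρ(σ) ρ(g)⁻¹ = ρ(σ) ^ χ(g)` for `σ` in the inertia group. -/
theorem tendsto_pow {g σ : Ω ≃ₐ[K] Ω} (hg : g ∈ G₁) (hσ : σ ∈ G₁) (hσI : TameVal.Inert v σ) :
    Tendsto (fun N : ℕ => (ρ σ : Matrix ι ι ℚ_[p]) ^ N) (filt p (chi K Ω p g : ℤ_[p]))
      (𝓝 ((ρ g : Matrix ι ι ℚ_[p]) * (ρ σ : Matrix ι ι ℚ_[p]) * ((ρ g)⁻¹ : Matrix.GeneralLinearGroup ι ℚ_[p]))) := by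
  have hp0 : (0 : ℝ) < (p : ℝ)⁻¹ := by
    have : (0 : ℝ) < p := by exact_mod_cast hp.out.pos
    positivity
  apply tendsto_of_nle
  intro k
  have hmem : ∀ᶠ N : ℕ in filt p (chi K Ω p g : ℤ_[p]),
      ‖(N : ℤ_[p]) - (chi K Ω p g : ℤ_[p])‖ ≤ (p : ℝ)⁻¹ ^ k := by
    have h1 : ∀ᶠ x : ℤ_[p] in 𝓝 (chi K Ω p g : ℤ_[p]), ‖x - (chi K Ω p g : ℤ_[p])‖ < (p : ℝ)⁻¹ ^ k := by
      have h2 := Metric.ball_mem_nhds (chi K Ω p g : ℤ_[p]) (pow_pos hp0 k)
      filter_upwards [h2] with x hx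
      rwa [Metric.mem_ball, dist_eq_norm] at hx
    have h3 := (tendsto_comap (f := (Nat.cast : ℕ → ℤ_[p])) (x := 𝓝 (chi K Ω p g : ℤ_[p]))).eventually h1
    exact h3.mono fun N hN => hN.le
  filter_upwards [hmem] with N hN
  obtain ⟨ζ, hζ⟩ := HasEnoughRootsOfUnity.exists_primitiveRoot Ω (p ^ k)
  have hgζ : g ζ = ζ ^ N := chi_spec g hζ.pow_eq_one hN
  have hopen := isOpen_cong ρ G₁ hG₁ hρ hG₁o (pow_pos hp0 k)
  have hclosed := Subgroup.isClosed_of_isOpen _ hopen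
  have hfix := InfiniteGalois.fixingSubgroup_fixedField (k := K) (K := Ω)
    ⟨cong ρ G₁ hG₁ ((p : ℝ)⁻¹ ^ k) (pow_pos hp0 k).le, hclosed⟩
  have hτG : g * σ * g⁻¹ * (σ ^ N)⁻¹ ∈ G₁ :=
    G₁.mul_mem (G₁.mul_mem (G₁.mul_mem hg hσ) (G₁.inv_mem hg)) (G₁.inv_mem (G₁.pow_mem hσ N))
  have hmemN := TameVal.tame_mem hv (cong ρ G₁ hG₁ ((p : ℝ)⁻¹ ^ k) (pow_pos hp0 k).le) hfix hσI
    hp.out.pos hpv k k N hζ hgζ (pow_mem_cong ρ G₁ hG₁ hσ k)
    (fun n hn => conj_mem_cong ρ G₁ hG₁ hτG hn) (pow_mem_cong ρ G₁ hG₁ hτG k)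
  have h4 := ((mem_cong ρ G₁ hG₁).1 hmemN).2
  have h5 : (ρ g : Matrix ι ι ℚ_[p]) * (ρ σ : Matrix ι ι ℚ_[p]) *
      ((ρ g)⁻¹ : Matrix.GeneralLinearGroup ι ℚ_[p]) - (ρ σ : Matrix ι ι ℚ_[p]) ^ N =
      ((ρ (g * σ * g⁻¹ * (σ ^ N)⁻¹) : Matrix ι ι ℚ_[p]) - 1) * (ρ (σ ^ N) : Matrix ι ι ℚ_[p]) := by
    have h7 : ρ (g * σ * g⁻¹ * (σ ^ N)⁻¹) * ρ (σ ^ N) = ρ g * ρ σ * (ρ g)⁻¹ := by
      rw [← map_mul, inv_mul_cancel_right, map_mul, map_mul, map_inv]
    have h8 := congrArg Units.val h7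
    rw [Units.val_mul, Units.val_mul, Units.val_mul] at h8
    rw [sub_mul, one_mul, h8, map_pow ρ σ N, Units.val_pow_eq_pow_val]
  rw [h5]
  have h6 := h4.mul (pow_pos hp0 k).le zero_le_one (nle_one_of_mem ρ G₁ hG₁ (G₁.pow_mem hσ N))
  rwa [mul_one] at h6

end tend

section residue

variable {R K Ω : Type u} [CommRing R] [IsDomain R] [IsDiscreteValuationRing R]
  [Field K] [Algebra R K] [IsFractionRing R K] [Field Ω] [Algebra K Ω]
  (W : ValuationSubring Ω) (hW : SGA7.LiesOver K R W) (p : ℕ) [hp : Fact p.Prime]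
  (hpv : W.valuation (p : Ω) = 1)
  (hstar : ∀ (k' : Type u) [Field k'] [Algebra (IsLocalRing.ResidueField R) k'],
      FiniteDimensional (IsLocalRing.ResidueField R) k' → ∃ m : ℕ, ∀ ζ : k', ¬ IsPrimitiveRoot ζ (p ^ m))

include hW hpv hstar in
/-- A finite extension does not contain all the roots of unity of `p`-power order. -/
theorem exists_not_mem (L : IntermediateField K Ω) [FiniteDimensional K L] :
    ∃ m : ℕ, ∀ ζ : Ω, IsPrimitiveRoot ζ (p ^ m) → ζ ∉ L := by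
  let V : ValuationSubring L := W.comap (algebraMap L Ω)
  have hmemV : ∀ x : L, x ∈ V ↔ (x : Ω) ∈ W := fun x => Iff.rfl
  let φ : R →+* V := ((algebraMap K L).comp (algebraMap R K)).codRestrict V.toSubring (fun r => hW.1 r)
  have hφ : ∀ r : R, (φ r : L) = algebraMap K L (algebraMap R K r) := fun r => rfl
  have hunit : ∀ y : V, W.valuation ((y : L) : Ω) = 1 → IsUnit y := by
    intro y hy
    have hy0 : (y : L) ≠ 0 := by
      intro h0
      rw [h0, ZeroMemClass.coe_zero, map_zero] at hy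
      exact zero_ne_one hy
    have hinv : (y : L)⁻¹ ∈ V := by
      rw [hmemV, ← ValuationSubring.valuation_le_one_iff]
      have h1 : (((y : L)⁻¹ : L) : Ω) = ((y : L) : Ω)⁻¹ := rfl
      rw [h1, map_inv₀, hy, inv_one]
    refine IsUnit.of_mul_eq_one ⟨(y : L)⁻¹, hinv⟩ ?_
    apply Subtype.val_injective
    exact mul_inv_cancel₀ hy0
  have hloc : IsLocalHom φ := by
    refine ⟨fun r hr => ?_⟩
    by_contra hn
    have h1 := hW.2 r ((IsLocalRing.mem_maximalIdeal _).2 hn)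
    obtain ⟨c, hc⟩ := hr.exists_right_inv
    have h2 : algebraMap K Ω (algebraMap R K r) * ((c : L) : Ω) = 1 := by
      have h3 := congrArg (fun y : V => ((y : L) : Ω)) hc
      exact h3
    have h3 : W.valuation (algebraMap K Ω (algebraMap R K r)) * W.valuation ((c : L) : Ω) = 1 := by
      rw [← map_mul, h2, map_one]
    have h4 : W.valuation ((c : L) : Ω) ≤ 1 := (W.valuation_le_one_iff _).2 c.2
    have h5 : W.valuation (algebraMap K Ω (algebraMap R K r)) * W.valuation ((c : L) : Ω) < 1 := by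
      calc _ ≤ W.valuation (algebraMap K Ω (algebraMap R K r)) * 1 := by gcongr
        _ < 1 := by rwa [mul_one]
    exact absurd h3 h5.ne
  have hfin := HensVal.finite_residue (K := K) V φ hφ
  let _ : Algebra (IsLocalRing.ResidueField R) (IsLocalRing.ResidueField V) :=
    (IsLocalRing.ResidueField.map φ).toAlgebra
  obtain ⟨m, hm⟩ := hstar (IsLocalRing.ResidueField V) hfin
  refine ⟨m, fun ζ hζ hζL => ?_⟩
  have hζv : W.valuation ζ = 1 :=
    TameVal.val_eq_one_of_pow_eq_one (pow_pos hp.out.pos m).ne' hζ.pow_eq_one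
  let y : V := ⟨⟨ζ, hζL⟩, (W.valuation_le_one_iff _).1 hζv.le⟩
  apply hm (IsLocalRing.residue V y)
  constructor
  · rw [← map_pow]
    have h1 : y ^ p ^ m = 1 := by
      apply Subtype.val_injective
      apply Subtype.val_injective
      exact hζ.pow_eq_one
    rw [h1, map_one]
  · intro l hl
    apply hζ.dvd_of_pow_eq_one
    have h1 : IsLocalRing.residue V (y ^ l - 1) = 0 := by
      rw [map_sub, map_pow, hl, map_one, sub_self]
    rw [IsLocalRing.residue_eq_zero_iff, IsLocalRing.mem_maximalIdeal] at h1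
    have h2 : W.valuation (ζ ^ l - 1) < 1 := by
      by_contra hcon
      push Not at hcon
      apply h1
      apply hunit
      refine le_antisymm ((W.valuation_le_one_iff _).2 (y ^ l - 1).2) hcon
    refine TameVal.eq_one_of_pow_eq_one hpv (m := m) ?_ h2
    rw [← pow_mul, mul_comm, pow_mul, hζ.pow_eq_one, one_pow]

include hW in
theorem val_natCast_eq_one (h : (p : IsLocalRing.ResidueField R) ≠ 0) : W.valuation (p : Ω) = 1 := by
  have h1 : IsUnit (p : R) := by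
    by_contra hn
    apply h
    rw [← map_natCast (IsLocalRing.residue R), IsLocalRing.residue_eq_zero_iff]
    exact hn
  obtain ⟨c, hc⟩ := h1.exists_right_inv
  have h2 : ∀ r : R, W.valuation (algebraMap K Ω (algebraMap R K r)) ≤ 1 := fun r =>
    (W.valuation_le_one_iff _).2 (hW.1 r)
  have h3 : W.valuation (p : Ω) * W.valuation (algebraMap K Ω (algebraMap R K c)) = 1 := by
    have h4 : (p : Ω) = algebraMap K Ω (algebraMap R K (p : R)) := by
      rw [map_natCast, map_natCast]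
    rw [h4, ← map_mul, ← map_mul, ← map_mul, hc, map_one, map_one, map_one]
  apply le_antisymm
  · have h4 := h2 (p : R)
    rwa [map_natCast, map_natCast] at h4
  · calc 1 = W.valuation (p : Ω) * W.valuation (algebraMap K Ω (algebraMap R K c)) := h3.symm
      _ ≤ W.valuation (p : Ω) * 1 := by gcongr; exact h2 c
      _ = _ := mul_one _

end residue

end Groth.Agent.Sga7.H743.Mono
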