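import Mathlib.NumberTheory.Padics.Complex
import Mathlib.NumberTheory.Padics.RingHoms
import Mathlib.LinearAlgebra.Matrix.Charpoly.Basic
import Mathlib.LinearAlgebra.Matrix.Charpoly.Coeff
import Mathlib.LinearAlgebra.Matrix.ToLinearEquiv
import Mathlib.LinearAlgebra.Matrix.GeneralLinearGroup.Defs
import Mathlib.Topology.Instances.Matrix
import Mathlib.Analysis.Normed.Group.Ultra
import Mathlib.Analysis.Normed.Ring.Ultra

/-!
# A unipotence criterion for `p`-adic matrices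

`X ∈ 1 + p² Mₙ(ℤ_p)` and `h ∈ GLₙ(ℚ_p)` with `h^j X h^{-j} = lim_{N → u^j} X^N` for a `p`-adic
integer `u` of infinite order: then `X` is unipotent.
-/

set_option autoImplicit false
set_option linter.unusedSectionVars false

open Filter Topology

namespace Groth.Agent.Sga7.H743.PadicUnip

variable (p : ℕ) [hp : Fact p.Prime]

section key

variable {F : Type*} [NormedField F] [IsUltrametricDist F] [NormedAlgebra ℚ_[p] F]

theorem norm_natCast_alg (d : ℕ) : ‖(d : F)‖ = ‖(d : ℚ_[p])‖ := by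
  rw [← map_natCast (algebraMap ℚ_[p] F) d, norm_algebraMap']

theorem norm_le_one_of_norm_sub {α : F} (h : ‖α - 1‖ < 1) : ‖α‖ = 1 := by
  have h1 : α = 1 + (α - 1) := by ring
  rw [h1, IsUltrametricDist.norm_add_eq_max_of_norm_ne_norm (by rw [norm_one]; exact h.ne'), norm_one]
  exact max_eq_left h.le

theorem norm_pow_sub_one_le {α : F} (h : ‖α - 1‖ < 1) (i : ℕ) : ‖α ^ i - 1‖ ≤ ‖α - 1‖ := by
  rw [← mul_geom_sum, norm_mul]
  have h1 : ‖∑ j ∈ Finset.range i, α ^ j‖ ≤ 1 := by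
    apply IsUltrametricDist.norm_sum_le_of_forall_le_of_nonneg zero_le_one
    intro j _
    rw [norm_pow, norm_le_one_of_norm_sub h, one_pow]
  calc ‖α - 1‖ * ‖∑ j ∈ Finset.range i, α ^ j‖ ≤ ‖α - 1‖ * 1 := by gcongr
    _ = ‖α - 1‖ := mul_one _

theorem norm_pow_sub_one_of_lt {α : F} (h : ‖α - 1‖ < 1) (d : ℕ) (hd : ‖α - 1‖ < ‖(d : F)‖) :
    ‖α ^ d - 1‖ = ‖α - 1‖ * ‖(d : F)‖ := by
  rw [← mul_geom_sum, norm_mul]
  congr 1
  have h1 : ∑ j ∈ Finset.range d, α ^ j = (d : F) + ∑ j ∈ Finset.range d, (α ^ j - 1) := by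
    rw [Finset.sum_sub_distrib]
    simp
  have h2 : ‖∑ j ∈ Finset.range d, (α ^ j - 1)‖ ≤ ‖α - 1‖ :=
    IsUltrametricDist.norm_sum_le_of_forall_le_of_nonneg (norm_nonneg _)
      (fun j _ => norm_pow_sub_one_le h j)
  rw [h1, IsUltrametricDist.norm_add_eq_max_of_norm_ne_norm (h2.trans_lt hd).ne']
  exact max_eq_left (h2.trans hd.le)

theorem norm_pow_sub_one {α : F} (h : ‖α - 1‖ < (p : ℝ)⁻¹) (d : ℕ) :
    ‖α ^ d - 1‖ = ‖α - 1‖ * ‖(d : F)‖ := by
  have hp1 : (1 : ℝ) < p := by exact_mod_cast hp.out.one_lt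
  have hlt1 : ‖α - 1‖ < 1 := h.trans (inv_lt_one_of_one_lt₀ hp1)
  rcases eq_or_ne d 0 with rfl | hd
  · simp
  obtain ⟨k, m, hm, rfl⟩ := Nat.exists_eq_pow_mul_and_not_dvd hd p hp.out.ne_one
  have hm1 : ‖(m : F)‖ = 1 := by
    rw [norm_natCast_alg p]
    rw [Padic.norm_natCast_eq_one_iff]
    exact (Nat.Prime.coprime_iff_not_dvd hp.out).2 hm
  have hpn : ‖(p : F)‖ = (p : ℝ)⁻¹ := by
    rw [norm_natCast_alg p]
    exact Padic.norm_p
  have key : ∀ k : ℕ, ‖(α ^ m) ^ (p ^ k) - 1‖ = ‖α - 1‖ * ‖((p ^ k : ℕ) : F)‖ := by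
    intro k
    induction k with
    | zero =>
      rw [pow_zero, pow_one, Nat.cast_one, norm_one, mul_one]
      rw [norm_pow_sub_one_of_lt hlt1 m (by rw [hm1]; exact hlt1), hm1, mul_one]
    | succ k ih =>
      have h3 : ‖(α ^ m) ^ (p ^ k) - 1‖ < (p : ℝ)⁻¹ := by
        refine lt_of_le_of_lt ?_ h
        rw [← pow_mul]
        exact norm_pow_sub_one_le hlt1 _
      rw [pow_succ, pow_mul, norm_pow_sub_one_of_lt (h3.trans (inv_lt_one_of_one_lt₀ hp1)) p
        (by rw [hpn]; exact h3), ih, Nat.cast_mul, norm_mul, mul_assoc]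
  rw [mul_comm (p ^ k) m, pow_mul, key k, Nat.cast_mul, norm_mul, hm1, one_mul]

theorem norm_pow_sub_pow {α : F} (h : ‖α - 1‖ < (p : ℝ)⁻¹) (N M : ℕ) :
    ‖α ^ N - α ^ M‖ = ‖α - 1‖ * ‖(N : ℤ_[p]) - (M : ℤ_[p])‖ := by
  have hp1 : (1 : ℝ) < p := by exact_mod_cast hp.out.one_lt
  have hlt1 : ‖α - 1‖ < 1 := h.trans (inv_lt_one_of_one_lt₀ hp1)
  wlog hNM : M ≤ N generalizing N M with H
  · rw [norm_sub_rev, H M N (by omega), norm_sub_rev (N : ℤ_[p])]
  obtain ⟨d, rfl⟩ := Nat.exists_eq_add_of_le hNM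
  have h1 : α ^ (M + d) - α ^ M = α ^ M * (α ^ d - 1) := by rw [pow_add]; ring
  rw [h1, norm_mul, norm_pow, norm_le_one_of_norm_sub hlt1, one_pow, one_mul,
    norm_pow_sub_one p h]
  congr 1
  rw [Nat.cast_add, add_sub_cancel_left, norm_natCast_alg p]
  rw [PadicInt.norm_def, PadicInt.coe_natCast]

/-- The filter of natural numbers tending to a `p`-adic integer. -/
noncomputable def filt (u : ℤ_[p]) : Filter ℕ := comap (Nat.cast : ℕ → ℤ_[p]) (𝓝 u)

instance (u : ℤ_[p]) : NeBot (filt p u) :=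
  comap_neBot fun _ ht => PadicInt.denseRange_natCast.mem_nhds ht

theorem norm_sub_of_tendsto {α β γ : F} (h : ‖α - 1‖ < (p : ℝ)⁻¹) {u w : ℤ_[p]}
    (hβ : Tendsto (fun N : ℕ => α ^ N) (filt p u) (𝓝 β))
    (hγ : Tendsto (fun N : ℕ => α ^ N) (filt p w) (𝓝 γ)) :
    ‖β - γ‖ = ‖α - 1‖ * ‖u - w‖ := by
  have h1 : Tendsto (fun q : ℕ × ℕ => ‖α ^ q.1 - α ^ q.2‖) (filt p u ×ˢ filt p w) (𝓝 ‖β - γ‖) :=
    ((hβ.comp tendsto_fst).sub (hγ.comp tendsto_snd)).norm
  have hu : Tendsto (fun N : ℕ => (N : ℤ_[p])) (filt p u) (𝓝 u) := tendsto_comap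
  have hw : Tendsto (fun N : ℕ => (N : ℤ_[p])) (filt p w) (𝓝 w) := tendsto_comap
  have h2 : Tendsto (fun q : ℕ × ℕ => ‖α - 1‖ * ‖(q.1 : ℤ_[p]) - (q.2 : ℤ_[p])‖)
      (filt p u ×ˢ filt p w) (𝓝 (‖α - 1‖ * ‖u - w‖)) :=
    (((hu.comp tendsto_fst).sub (hw.comp tendsto_snd)).norm).const_mul _
  refine tendsto_nhds_unique h1 ?_
  refine h2.congr fun q => ?_
  exact (norm_pow_sub_pow p h q.1 q.2).symm

end key

section matrices

variable {p}
variable {ι : Type*} [Fintype ι] [DecidableEq ι]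

/-- An eigenvalue of a matrix congruent to `1` is near `1`. -/
theorem norm_eigenvalue_sub_one_le {F : Type*} [NormedField F] [IsUltrametricDist F]
    (X : Matrix ι ι F) (r : ℝ) (hr : 0 ≤ r) (hX : ∀ i j, ‖(X - 1) i j‖ ≤ r) (α : F) (v : ι → F)
    (hv : v ≠ 0) (h : X.mulVec v = α • v) : ‖α - 1‖ ≤ r := by
  obtain ⟨k, hk⟩ : ∃ k, v k ≠ 0 := by
    by_contra hcon
    push Not at hcon
    exact hv (funext hcon)
  have : Nonempty ι := ⟨k⟩
  obtain ⟨i, hi⟩ := Finite.exists_max (fun i => ‖v i‖)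
  have hi0 : 0 < ‖v i‖ := (norm_pos_iff.2 hk).trans_le (hi k)
  have h1 : (X - 1).mulVec v = (α - 1) • v := by
    rw [Matrix.sub_mulVec, h, Matrix.one_mulVec, sub_smul, one_smul]
  have h2 : (α - 1) * v i = ∑ j, (X - 1) i j * v j := by
    have := congrFun h1 i
    rw [Pi.smul_apply, smul_eq_mul] at this
    rw [← this]
    rfl
  have h3 : ‖(α - 1) * v i‖ ≤ r * ‖v i‖ := by
    rw [h2]
    apply IsUltrametricDist.norm_sum_le_of_forall_le_of_nonneg (by positivity)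
    intro j _
    rw [norm_mul]
    exact mul_le_mul (hX i j) (hi j) (norm_nonneg _) hr
  rw [norm_mul] at h3
  exact le_of_mul_le_mul_right h3 hi0

/-- Limits of powers act on an eigenvector by limits of powers of the eigenvalue. -/
theorem exists_limit_eigenvalue {F : Type*} [NormedField F] (X B : Matrix ι ι F) (l : Filter ℕ) [NeBot l]
    (hB : Tendsto (fun N : ℕ => X ^ N) l (𝓝 B)) (α : F) (v : ι → F)
    (hv : v ≠ 0) (h : X.mulVec v = α • v) :
    ∃ β : F, Tendsto (fun N : ℕ => α ^ N) l (𝓝 β) ∧ B.mulVec v = β • v := by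
  obtain ⟨k, hk⟩ : ∃ k, v k ≠ 0 := by
    by_contra hcon
    push Not at hcon
    exact hv (funext hcon)
  have hpow : ∀ N : ℕ, (X ^ N).mulVec v = α ^ N • v := by
    intro N
    induction N with
    | zero => simp
    | succ N ih => rw [pow_succ, ← Matrix.mulVec_mulVec, h, Matrix.mulVec_smul, ih, smul_smul, pow_succ,
        mul_comm]
  have h1 : Tendsto (fun N : ℕ => (X ^ N).mulVec v) l (𝓝 (B.mulVec v)) := by
    have hc : Continuous fun M : Matrix ι ι F => M.mulVec v :=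
      Continuous.matrix_mulVec continuous_id continuous_const
    exact (hc.tendsto B).comp hB
  simp_rw [hpow] at h1
  have h2 : Tendsto (fun N : ℕ => α ^ N) l (𝓝 ((B.mulVec v) k / v k)) := by
    have h3 := ((continuous_apply k).tendsto _).comp h1
    have h4 := h3.div_const (v k)
    refine h4.congr fun N => ?_
    simp only [Function.comp_apply, Pi.smul_apply, smul_eq_mul]
    rw [mul_div_assoc, div_self hk, mul_one]
  refine ⟨_, h2, ?_⟩
  refine tendsto_nhds_unique h1 ?_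
  exact h2.smul_const v

theorem exists_eigenvector {F : Type*} [Field F] (X : Matrix ι ι F) (α : F) (h : X.charpoly.IsRoot α) :
    ∃ v : ι → F, v ≠ 0 ∧ X.mulVec v = α • v := by
  rw [Polynomial.IsRoot.def, Matrix.eval_charpoly] at h
  obtain ⟨v, hv, h1⟩ := Matrix.exists_mulVec_eq_zero_iff.2 h
  refine ⟨v, hv, ?_⟩
  rw [Matrix.sub_mulVec, sub_eq_zero] at h1
  rw [← h1]
  simp [Matrix.scalar_apply, ← Matrix.smul_one_eq_diagonal, Matrix.smul_mulVec]

theorem isRoot_charpoly_of_eigenvector {F : Type*} [Field F] (X : Matrix ι ι F) (α : F)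
    (v : ι → F) (hv : v ≠ 0) (h : X.mulVec v = α • v) : X.charpoly.IsRoot α := by
  rw [Polynomial.IsRoot.def, Matrix.eval_charpoly]
  apply Matrix.exists_mulVec_eq_zero_iff.1
  refine ⟨v, hv, ?_⟩
  rw [Matrix.sub_mulVec, h, sub_eq_zero]
  simp [Matrix.scalar_apply, ← Matrix.smul_one_eq_diagonal, Matrix.smul_mulVec]

/-- If every root of the characteristic polynomial in an algebraically closed extension is `1`, the matrix
is unipotent. -/
theorem isNilpotent_sub_one {E F : Type*} [Field E] [Field F] [Algebra E F] [IsAlgClosed F]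
    (X : Matrix ι ι E)
    (h : ∀ α : F, (X.map (algebraMap E F)).charpoly.IsRoot α → α = 1) : IsNilpotent (X - 1) := by
  set Y : Matrix ι ι F := X.map (algebraMap E F) with hY
  have h1 : Y.charpoly = (Polynomial.X - Polynomial.C 1) ^ Y.charpoly.roots.card := by
    have h2 := (IsAlgClosed.splits Y.charpoly).eq_prod_roots_of_monic (Matrix.charpoly_monic Y)
    have h3 : Y.charpoly.roots = Multiset.replicate Y.charpoly.roots.card 1 := by
      rw [Multiset.eq_replicate]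
      refine ⟨rfl, fun b hb => h b ?_⟩
      exact (Polynomial.mem_roots'.1 hb).2
    conv_lhs => rw [h2, h3]
    simp
  have h4 : (Y - 1) ^ Y.charpoly.roots.card = 0 := by
    have h5 := Matrix.aeval_self_charpoly Y
    rw [h1] at h5
    simpa using h5
  refine ⟨Y.charpoly.roots.card, ?_⟩
  have h6 : ((X - 1) ^ Y.charpoly.roots.card).map (algebraMap E F) = 0 := by
    have h7 : ((algebraMap E F).mapMatrix ((X - 1) ^ Y.charpoly.roots.card)) =
        (Y - 1) ^ Y.charpoly.roots.card := by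
      rw [map_pow, map_sub, map_one]
      rfl
    rw [← h4, ← h7]
    rfl
  ext i j
  have h8 := congrFun (congrFun h6 i) j
  rw [Matrix.map_apply, Matrix.zero_apply] at h8
  rw [Matrix.zero_apply]
  exact (map_eq_zero (algebraMap E F)).1 h8

theorem tendsto_map_matrix {E F : Type*} [NormedField E] [NormedField F] [NormedAlgebra E F]
    (X B : Matrix ι ι E) (l : Filter ℕ) (h : Tendsto (fun N : ℕ => X ^ N) l (𝓝 B)) :
    Tendsto (fun N : ℕ => (X.map (algebraMap E F)) ^ N) l (𝓝 (B.map (algebraMap E F))) := by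
  have hc : Continuous fun M : Matrix ι ι E => M.map (algebraMap E F) :=
    Continuous.matrix_map continuous_id (continuous_algebraMap E F)
  refine ((hc.tendsto B).comp h).congr fun N => ?_
  exact map_pow ((algebraMap E F).mapMatrix) X N

/-- The unipotence criterion. -/
theorem isNilpotent_sub_one_of_conj (X : Matrix ι ι ℚ_[p]) (r : ℝ) (hr : 0 ≤ r) (hrp : r < (p : ℝ)⁻¹)
    (hX : ∀ i j, ‖(X - 1) i j‖ ≤ r)
    (u : ℤ_[p]) (hu : Function.Injective fun j : ℕ => u ^ j)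
    (h : (Matrix ι ι ℚ_[p])ˣ)
    (H : ∀ j : ℕ, Tendsto (fun N : ℕ => X ^ N) (filt p (u ^ j))
      (𝓝 ((h ^ j : (Matrix ι ι ℚ_[p])ˣ).val * X * ((h ^ j)⁻¹ : (Matrix ι ι ℚ_[p])ˣ).val))) :
    IsNilpotent (X - 1) := by
  apply isNilpotent_sub_one (F := PadicAlgCl p) X
  intro α hα
  obtain ⟨v, hv, hvα⟩ := exists_eigenvector _ α hα
  have hα1 : ‖α - 1‖ < (p : ℝ)⁻¹ := by
    refine lt_of_le_of_lt (norm_eigenvalue_sub_one_le (X.map (algebraMap ℚ_[p] (PadicAlgCl p))) r hr ?_ α v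
      hv hvα) hrp
    intro i j
    have h1 : (X.map (algebraMap ℚ_[p] (PadicAlgCl p)) - 1) i j =
        algebraMap ℚ_[p] (PadicAlgCl p) ((X - 1) i j) := by
      rw [Matrix.sub_apply, Matrix.sub_apply, Matrix.map_apply, map_sub, Matrix.one_apply, Matrix.one_apply]
      split_ifs <;> simp
    rw [h1, norm_algebraMap']
    exact hX i j
  have H1 : ∀ j : ℕ, ∃ β : PadicAlgCl p, Tendsto (fun N : ℕ => α ^ N) (filt p (u ^ j)) (𝓝 β) ∧
      (X.map (algebraMap ℚ_[p] (PadicAlgCl p))).charpoly.IsRoot β := by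
    intro j
    obtain ⟨β, hβ, hβ'⟩ := exists_limit_eigenvalue _ _ _
      (tendsto_map_matrix (F := PadicAlgCl p) _ _ _ (H j)) α v hv hvα
    refine ⟨β, hβ, ?_⟩
    have h2 := isRoot_charpoly_of_eigenvector _ β v hv hβ'
    have h3 : (((h ^ j : (Matrix ι ι ℚ_[p])ˣ).val * X * ((h ^ j)⁻¹ : (Matrix ι ι ℚ_[p])ˣ).val).map
        (algebraMap ℚ_[p] (PadicAlgCl p))).charpoly =
        (X.map (algebraMap ℚ_[p] (PadicAlgCl p))).charpoly := by
      rw [Matrix.charpoly_map, Matrix.charpoly_map]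
      congr 1
      rw [Matrix.coe_units_inv]
      exact Matrix.charpoly_units_conj (h ^ j) X
    rwa [h3] at h2
  choose β hβ hβr using H1
  have hfin : Set.Finite {γ : PadicAlgCl p | (X.map (algebraMap ℚ_[p] (PadicAlgCl p))).charpoly.IsRoot γ} :=
    Polynomial.finite_setOfPred_isRoot (Matrix.charpoly_monic _).ne_zero
  have : Finite {γ : PadicAlgCl p | (X.map (algebraMap ℚ_[p] (PadicAlgCl p))).charpoly.IsRoot γ} := hfin
  obtain ⟨i, j, hij, hβij⟩ := Finite.exists_ne_map_eq_of_infinite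
    (fun j : ℕ => (⟨β j, hβr j⟩ : {γ : PadicAlgCl p |
      (X.map (algebraMap ℚ_[p] (PadicAlgCl p))).charpoly.IsRoot γ}))
  have h4 : β i = β j := congrArg Subtype.val hβij
  have h5 := norm_sub_of_tendsto p hα1 (hβ i) (hβ j)
  rw [h4, sub_self, norm_zero] at h5
  rcases mul_eq_zero.1 h5.symm with h6 | h6
  · exact sub_eq_zero.1 (norm_eq_zero.1 h6)
  · exact absurd (hu (sub_eq_zero.1 (norm_eq_zero.1 h6))) hij

end matrices

end Groth.Agent.Sga7.H743.PadicUnip
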