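import Groth.Agent.Etcore.HC
import Groth.Prelude.Def_SGA7I

/-!
# The Galois action on `H^q(X_Ω, M)` in terms of `HC`
-/

set_option autoImplicit false
set_option backward.isDefEq.respectTransparency false
set_option backward.isDefEq.respectTransparency.types false
open CategoryTheory CategoryTheory.Limits AlgebraicGeometry Opposite CategoryTheory.Abelian
universe u

namespace Groth.Agent.Sga7.H743.TraitAct

open scoped Groth.Agent.Etcore.EtInst
open Groth.Agent.Etcore.EtInst Groth.Agent.Etcore.HC

/-- `cohAct` is `HC` of `twistAut` (the kernel needs 30 seconds for this). -/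
theorem cohAct_eq_HC {K : Type u} [Field K] (Ω : Type u) [Field Ω] [Algebra K Ω]
    {X : Scheme.{u}} (f : X ⟶ Spec (CommRingCat.of K)) (M : Type) [AddCommGroup M] (q : ℕ)
    (σ : Ω ≃ₐ[K] Ω) [PreservesFiniteLimits (EtCoh.pull (SGA7.twistAut Ω f σ))]
    (x : HH (SGA7.bcField Ω f) (EtCoh.const (SGA7.bcField Ω f) M) q) :
    SGA7.cohAct Ω f σ M q x = HC M (SGA7.twistAut Ω f σ) q x := rfl

end Groth.Agent.Sga7.H743.TraitAct
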