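import Groth.Agent.Etcore.MvGlue352
import Groth.Agent.Etcore.HC
import Groth.Agent.Etcore.TorInv
import Groth.Prelude.Def_SGA7I

/-!
# Cohomology with constant coefficients of a disjoint union; the Galois action

* `eq_zero_of_two`, `eq_zero_of_cover`: a class on `X` which vanishes on the members of a finite disjoint
  open covering is zero.
* `cohAct_eq_HC`, ...
-/

set_option autoImplicit false
set_option backward.isDefEq.respectTransparency false
set_option backward.isDefEq.respectTransparency.types false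
open CategoryTheory CategoryTheory.Limits AlgebraicGeometry Opposite CategoryTheory.Abelian
universe u

namespace Groth.Agent.Sga7.H743.TraitCoh

open Groth.Agent.Etcore.ShriekBasic Groth.Agent.Etcore.MVShriek Groth.Agent.Etcore.MVEt
open Groth.Agent.Etcore.PullCoh Groth.Agent.Etcore.MVbc Groth.Agent.Etcore.Stalks
open scoped Groth.Agent.Etcore.EtInst
open Groth.Agent.Etcore.EtInst Groth.Agent.Etcore.HpullCalc Groth.Agent.Etcore.HpVia
open Groth.Agent.Etcore

attribute [local instance] Groth.Agent.S0101.result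

variable {X U V W : Scheme.{u}}

/-- A class vanishing on two disjoint opens which cover `X` is zero. -/
theorem eq_zero_of_two (j : U ⟶ X) (k : V ⟶ X) [IsOpenImmersion j] [IsOpenImmersion k]
    (hd : Disjoint (Set.range j) (Set.range k))
    (hcov : Set.range j ∪ Set.range k = Set.univ)
    (F : EtCoh.Ab X) (n : ℕ) (e : HH X F n) (hj : hp j F n e = 0) (hk : hp k F n e = 0) : e = 0 := by
  let w : (⊥ : X.Opens).toScheme ⟶ X := (⊥ : X.Opens).ι
  have hw : Set.range w = Set.range j ∩ Set.range k := by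
    rw [Set.disjoint_iff_inter_eq_empty.1 hd]
    have h1 : Set.range w = ((⊥ : X.Opens) : Set X) := Scheme.Opens.range_ι _
    rw [h1]; rfl
  rw [MvGlue352.hp_eq_psi] at hj hk
  have hj' := (psi_bijective j F n).1 (hj.trans (map_zero _).symm)
  have hk' := (psi_bijective k F n).1 (hk.trans (map_zero _).symm)
  have hS := shortExact_mv j k w hw (EtCoh.const X ℤ) hcov
  have hz : IsZero (P w (EtCoh.const X ℤ)) := by
    have h0 : IsZero ((EtCoh.pull w).obj (EtCoh.const X ℤ)) := by
      have : IsEmpty ↥((⊥ : X.Opens).toScheme) := ⟨fun x => x.2⟩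
      exact TorInv.isZero_of_isEmpty _
    exact (EtShriek.extZero w).map_isZero h0
  have hmono : Mono (biprod.desc (c j (EtCoh.const X ℤ)) (c k (EtCoh.const X ℤ))) :=
    hS.exact.mono_g (hz.eq_of_src _ _)
  have hepi : Epi (biprod.desc (c j (EtCoh.const X ℤ)) (c k (EtCoh.const X ℤ))) := hS.epi_g
  have hiso : IsIso (biprod.desc (c j (EtCoh.const X ℤ)) (c k (EtCoh.const X ℤ))) :=
    isIso_of_mono_of_epi _
  have hzero : ∀ (e : Ext.{u + 1} (P j (EtCoh.const X ℤ) ⊞ P k (EtCoh.const X ℤ)) F n),
      (Ext.mk₀ (biprod.inl : P j (EtCoh.const X ℤ) ⟶ P j (EtCoh.const X ℤ) ⊞ P k (EtCoh.const X ℤ))).comp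
        e (zero_add n) = 0 →
      (Ext.mk₀ (biprod.inr : P k (EtCoh.const X ℤ) ⟶ P j (EtCoh.const X ℤ) ⊞ P k (EtCoh.const X ℤ))).comp
        e (zero_add n) = 0 → e = 0 := by
    intro e h1 h2
    have h3 := Ext.mk₀_id_comp e
    rw [← biprod.total, Ext.mk₀_add, Ext.add_comp, ← Ext.mk₀_comp_mk₀, ← Ext.mk₀_comp_mk₀] at h3
    rw [Ext.comp_assoc_of_second_deg_zero, Ext.comp_assoc_of_second_deg_zero, h1, h2,
      Ext.comp_zero, Ext.comp_zero, add_zero] at h3
    exact h3.symm
  have h4 : (Ext.mk₀ (biprod.desc (c j (EtCoh.const X ℤ)) (c k (EtCoh.const X ℤ)))).comp e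
      (zero_add n) = 0 := by
    refine hzero _ ?_ ?_
    · rw [← Ext.comp_assoc_of_second_deg_zero, Ext.mk₀_comp_mk₀, biprod.inl_desc]
      exact hj'
    · rw [← Ext.comp_assoc_of_second_deg_zero, Ext.mk₀_comp_mk₀, biprod.inr_desc]
      exact hk'
  have h5 := congrArg (fun z => (Ext.mk₀ (inv (biprod.desc (c j (EtCoh.const X ℤ))
    (c k (EtCoh.const X ℤ))))).comp z (zero_add n)) h4
  rw [← Ext.comp_assoc_of_second_deg_zero, Ext.mk₀_comp_mk₀, IsIso.inv_hom_id, Ext.mk₀_id_comp,
    Ext.comp_zero] at h5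
  exact h5

variable (M : Type) [AddCommGroup M]

open Groth.Agent.Etcore.HC

theorem HC_eq_zero_iff {X Y : Scheme.{u}} (f : X ⟶ Y) (n : ℕ) (x : HH Y (EtCoh.const Y M) n) :
    HC M f n x = 0 ↔ hp f (EtCoh.const Y M) n x = 0 := by
  have h := (HHmap_bijective (EtCore.pullConst f M).hom n).1
  rw [HC_apply]
  constructor
  · intro h1
    exact h (h1.trans (map_zero _).symm)
  · intro h1
    rw [h1, map_zero]

/-- On the empty scheme everything vanishes. -/
theorem subsingleton_of_isEmpty (X : Scheme.{u}) [IsEmpty X] (F : EtCoh.Ab X) (n : ℕ) :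
    Subsingleton (HH X F n) := by
  have h0 : IsZero (EtCoh.const X ℤ) := TorInv.isZero_of_isEmpty _
  have key : ∀ x : HH X F n, x = 0 := by
    intro x
    have h3 := Ext.mk₀_id_comp x
    rw [h0.eq_of_src (𝟙 _) 0, Ext.mk₀_zero, Ext.zero_comp] at h3
    exact h3.symm
  exact ⟨fun x y => (key x).trans (key y).symm⟩

/-- A class with constant coefficients which vanishes on the members of a finite family of pairwise
disjoint opens covering `X` is zero. -/
theorem eq_zero_of_cover (n : ℕ) {ι : Type u} [Finite ι] :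
    ∀ (X : Scheme.{u}) (U : ι → Scheme.{u}) (j : ∀ i, U i ⟶ X) (_ : ∀ i, IsOpenImmersion (j i))
      (_ : ∀ i i', i ≠ i' → Disjoint (Set.range (j i)) (Set.range (j i')))
      (_ : ∀ x : X, ∃ i, x ∈ Set.range (j i)) (e : HH X (EtCoh.const X M) n)
      (_ : ∀ i, HC M (j i) n e = 0), e = 0 := by
  induction ι using Finite.induction_empty_option with
  | of_equiv g ih =>
    intro X U j hj hd hc e he
    refine ih X (fun a => U (g a)) (fun a => j (g a)) (fun a => hj _) (fun i i' h => hd _ _ ?_)
      (fun x => ?_) e (fun a => he _)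
    · exact fun h' => h (g.injective h')
    · obtain ⟨i, hi⟩ := hc x
      obtain ⟨a, rfl⟩ := g.surjective i
      exact ⟨a, hi⟩
  | h_empty =>
    intro X U j hj hd hc e he
    have : IsEmpty X := ⟨fun x => (hc x).choose.elim⟩
    have := subsingleton_of_isEmpty X (EtCoh.const X M) n
    exact Subsingleton.elim _ _
  | h_option ih =>
    rename_i α _
    intro X U j hj hd hc e he
    let O : X.Opens := ⨆ a : α, (j (some a)).opensRange
    have hO : ∀ x : X, x ∈ O ↔ ∃ a, x ∈ Set.range (j (some a)) := by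
      intro x
      simp [O]
    have hrO : Set.range O.ι = (O : Set X) := Scheme.Opens.range_ι _
    refine eq_zero_of_two (j none) O.ι ?_ ?_ _ n e ((HC_eq_zero_iff M _ n e).1 (he none))
      ((HC_eq_zero_iff M _ n e).1 ?_)
    · rw [hrO, Set.disjoint_left]
      rintro x hx hx'
      obtain ⟨a, ha⟩ := (hO x).1 hx'
      exact Set.disjoint_left.1 (hd none (some a) (by simp)) hx ha
    · rw [hrO, Set.eq_univ_iff_forall]
      intro x
      obtain ⟨i, hi⟩ := hc x
      cases i with
      | none => exact Or.inl hi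
      | some a => exact Or.inr ((hO x).2 ⟨a, hi⟩)
    · have hsub : ∀ a, Set.range (j (some a)) ⊆ Set.range O.ι := by
        intro a x hx
        rw [hrO]
        exact (hO x).2 ⟨a, hx⟩
      let j' : ∀ a, U (some a) ⟶ O := fun a => IsOpenImmersion.lift O.ι (j (some a)) (hsub a)
      have hj' : ∀ a, j' a ≫ O.ι = j (some a) := fun a => IsOpenImmersion.lift_fac _ _ _
      have hval : ∀ a (y : U (some a)), O.ι (j' a y) = j (some a) y := by
        intro a y
        rw [← Scheme.Hom.comp_apply, hj']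
      refine ih O (fun a => U (some a)) j' (fun a => ?_) (fun a b hab => ?_) (fun x => ?_) _
        (fun a => ?_)
      · have : IsOpenImmersion (j' a ≫ O.ι) := by rw [hj']; exact hj _
        exact IsOpenImmersion.of_comp (j' a) O.ι
      · rw [Set.disjoint_left]
        rintro x ⟨y, rfl⟩ ⟨z, hz⟩
        refine Set.disjoint_left.1 (hd (some a) (some b) (by simpa using hab)) ⟨y, rfl⟩ ⟨z, ?_⟩
        rw [← hval, ← hval, hz]
      · obtain ⟨a, y, hy⟩ := (hO (O.ι x)).1 (by rw [← SetLike.mem_coe, ← hrO]; exact ⟨x, rfl⟩)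
        refine ⟨a, y, ?_⟩
        apply O.ι.isOpenEmbedding.injective
        rw [hval, hy]
      · rw [HC_HC M (j' a) O.ι (j (some a)) (hj' a) n e]
        exact he _

end Groth.Agent.Sga7.H743.TraitCoh
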