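import Groth.Agent.S1654
import Groth.Agent.CurvesC.NormSections
import Groth.Agent.VarietyA.RegSmoothSch
import Groth.Agent.VarietyA.GlobalSections
import Groth.Agent.CalgA.RegBasic
import Groth.Agent.Flat2B.SmoothGeom
import Mathlib.AlgebraicGeometry.Geometrically.Integral

/-!
# Geometrically integral components of a smooth proper scheme after a finite separable extension
-/

set_option autoImplicit false
universe u
open CategoryTheory CategoryTheory.Limits AlgebraicGeometry TopologicalSpace

namespace Groth.Agent.Sga7.H743.TraitComp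

theorem geometricallyIrreducible_of_surjective {Z O S : Scheme.{u}} (e : Z ⟶ O) [Surjective e]
    (h : O ⟶ S) [GeometricallyIrreducible (e ≫ h)] : GeometricallyIrreducible h := by
  refine ⟨geometrically_iff_of_isClosedUnderIsomorphisms.mpr fun F _ x => ?_⟩
  have h1 : IrreducibleSpace ↥(pullback (e ≫ h) x) := by
    exact GeometricallyIrreducible.geometrically_irreducibleSpace (f := e ≫ h) _ _ _
      (.of_hasPullback _ _)
  let i : pullback (e ≫ h) x ⟶ pullback h x :=
    pullback.lift (pullback.fst (e ≫ h) x ≫ e) (pullback.snd (e ≫ h) x)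
      (by rw [Category.assoc, pullback.condition])
  have hi1 : i ≫ pullback.snd h x = pullback.snd (e ≫ h) x := pullback.lift_snd _ _ _
  have hi2 : i ≫ pullback.fst h x = pullback.fst (e ≫ h) x ≫ e := pullback.lift_fst _ _ _
  have sq : IsPullback i (pullback.fst _ _) (pullback.fst _ _) e := by
    refine IsPullback.of_right (h₁₂ := pullback.snd h x) (v₁₃ := x) (h₂₂ := h) ?_ hi2
      (IsPullback.of_hasPullback _ _).flip
    rw [hi1]
    exact (IsPullback.of_hasPullback _ _).flip
  have hs : Surjective i := MorphismProperty.of_isPullback sq.flip ‹_›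
  exact hs.surj.irreducibleSpace i.continuous

/-- `H⁰ = K` for a proper geometrically integral scheme over a field. -/
theorem isIso_appTop_of_geometricallyIntegral {K : Type u} [Field K] {X : Scheme.{u}}
    (f : X ⟶ Spec (CommRingCat.of K)) [IsProper f]
    [GeometricallyIntegral f] : IsIso f.appTop := by
  have hc : GeometricallyConnected f := by
    constructor
    intro L _ y Z fst snd h
    have h0 : GeometricallyIrreducible f := inferInstance
    have := h0.geometrically_irreducibleSpace y fst snd h
    exact inferInstanceAs (ConnectedSpace Z)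
  have h := VarietyA.GlobalSections.finrank_global K X f
  let : Algebra K Γ(X, ⊤) := (VarietyA.GlobalSections.gl f).hom.toAlgebra
  have hb : Function.Bijective (algebraMap K Γ(X, ⊤)) :=
    Algebra.finrank_eq_one_iff_bijective_algebraMap.mp h
  have h1 : IsIso (VarietyA.GlobalSections.gl f) := by
    rw [ConcreteCategory.isIso_iff_bijective]
    exact hb
  have h2 : IsIso ((Scheme.ΓSpecIso (CommRingCat.of K)).inv ≫ f.appTop) := h1
  exact IsIso.of_isIso_comp_left (Scheme.ΓSpecIso (CommRingCat.of K)).inv f.appTop

/-- A clopen part of a scheme which is geometrically irreducible as a reduced closed subscheme is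
geometrically irreducible as an open subscheme. -/
theorem geometricallyIrreducible_opens {P S : Scheme.{u}} (O : P.Opens) (hO : IsClosed (O : Set P))
    (s : P ⟶ S)
    (h : GeometricallyIrreducible
      ((Scheme.IdealSheafData.vanishingIdeal ⟨(O : Set P), hO⟩).subschemeι ≫ s)) :
    GeometricallyIrreducible (O.ι ≫ s) := by
  let i := (Scheme.IdealSheafData.vanishingIdeal ⟨(O : Set P), hO⟩).subschemeι
  have hr : Set.range i = (O : Set P) := by
    rw [Scheme.IdealSheafData.range_subschemeι]
    exact Scheme.IdealSheafData.coe_support_vanishingIdeal ⟨(O : Set P), hO⟩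
  have hr2 : Set.range O.ι = (O : Set P) := Scheme.Opens.range_ι _
  let e := IsOpenImmersion.lift O.ι i (by rw [hr, hr2])
  have he : e ≫ O.ι = i := IsOpenImmersion.lift_fac _ _ _
  have hs : Surjective e := by
    constructor
    intro y
    have h1 : O.ι y ∈ Set.range i := by rw [hr, ← hr2]; exact ⟨y, rfl⟩
    obtain ⟨z, hz⟩ := h1
    refine ⟨z, ?_⟩
    apply O.ι.isOpenEmbedding.injective
    rw [← hz, ← Scheme.Hom.comp_apply, he]
  have h' : GeometricallyIrreducible (e ≫ O.ι ≫ s) := by
    rw [← Category.assoc, he]
    exact h
  exact geometricallyIrreducible_of_surjective e (O.ι ≫ s)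

/-- After a finite separable extension a smooth proper scheme over a field is a finite disjoint union
of geometrically integral open (and closed) subschemes. -/
theorem exists_components {K : Type u} [Field K] {C : Scheme.{u}} (f : C ⟶ Spec (CommRingCat.of K))
    [IsProper f] [Smooth f] :
    ∃ (K' : Type u) (_ : Field K') (_ : Algebra K K') (_ : FiniteDimensional K K')
      (_ : Algebra.IsSeparable K K') (ι : Type u) (_ : Finite ι)
      (T : ι → (pullback f (Spec.map (CommRingCat.ofHom (algebraMap K K')))).Opens),
      (∀ i i', i ≠ i' → Disjoint (T i : Set ↥(pullback f (Spec.map (CommRingCat.ofHom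
        (algebraMap K K'))))) (T i')) ∧ (∀ x, ∃ i, x ∈ T i) ∧
      ∀ i, IsProper ((T i).ι ≫ pullback.snd f _) ∧
        GeometricallyIntegral ((T i).ι ≫ pullback.snd f _) := by
  have hlf : LocallyOfFiniteType f := inferInstance
  have hN : IsLocallyNoetherian C := LocallyOfFiniteType.isLocallyNoetherian f
  have hcs : CompactSpace C := QuasiCompact.compactSpace_of_compactSpace f
  have hNC : IsNoetherian C := { }
  let _ : C.Over (Spec (CommRingCat.of K)) := ⟨f⟩
  have hlf' : LocallyOfFiniteType (C ↘ Spec (CommRingCat.of K)) := hlf
  obtain ⟨K', _, _, hfin, hsep, H⟩ := Groth.Agent.S1654.result K C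
    NoetherianSpace.finite_irreducibleComponents
  let P := pullback f (Spec.map (CommRingCat.ofHom (algebraMap K K')))
  let s : P ⟶ Spec (CommRingCat.of K') := pullback.snd f _
  have hlfs : LocallyOfFiniteType s := inferInstance
  have hNP : IsLocallyNoetherian P := LocallyOfFiniteType.isLocallyNoetherian s
  have hcP : CompactSpace P := QuasiCompact.compactSpace_of_compactSpace s
  have hNP' : IsNoetherian P := { }
  have hdom : ∀ y : P, IsDomain (P.presheaf.stalk y) := by
    intro y
    have : IsRegularLocalRing (P.presheaf.stalk y) :=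
      VarietyA.RegSmoothSch.isRegularLocalRing_stalk_of_mem_smoothLocus s y
        (by rw [s.smoothLocus_eq_top]; trivial)
    exact CalgA.RegBasic.isDomain _
  have hopen : ∀ Z : irreducibleComponents (P : Type u), IsOpen (Z : Set P) := fun Z =>
    CurvesC.NormSections.isOpen_of_mem_irreducibleComponents hdom Z.2
  refine ⟨K', inferInstance, inferInstance, hfin, hsep, irreducibleComponents (P : Type u), ?_,
    fun Z => ⟨Z, hopen Z⟩, ?_, ?_, ?_⟩
  · exact NoetherianSpace.finite_irreducibleComponents.to_subtype
  · intro Z Z' hne
    rw [Set.disjoint_left]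
    intro y hy hy'
    exact hne (Subtype.ext (CurvesC.NormSections.eq_of_mem_of_mem (hdom y) Z.2 Z'.2 hy hy'))
  · intro x
    exact ⟨⟨irreducibleComponent x, irreducibleComponent_mem_irreducibleComponents x⟩,
      mem_irreducibleComponent⟩
  · intro Z
    let O : P.Opens := ⟨Z, hopen Z⟩
    have hcl : IsClosed (O : Set P) := isClosed_of_mem_irreducibleComponents _ Z.2
    have hgi : GeometricallyIrreducible (O.ι ≫ s) :=
      geometricallyIrreducible_opens O hcl s (H Z.1 Z.2)
    have hci : IsClosedImmersion O.ι :=
      IsClosedImmersion.of_isPreimmersion O.ι (by rw [Scheme.Opens.range_ι]; exact hcl)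
    exact ⟨inferInstanceAs (IsProper (O.ι ≫ s)),
      Flat2B.SmoothGeom.geometricallyIntegral_of_smooth (O.ι ≫ s)⟩

end Groth.Agent.Sga7.H743.TraitComp
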