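import Groth.Prelude.Def_SGA7I
import Groth.Prelude.Def_EtBase
import Groth.Prelude.Def_ModelsG
import Groth.Prelude.Def_ModelsSS
import Groth.Prelude.Def_Curve
import Mathlib.FieldTheory.IsSepClosed
import Mathlib.RingTheory.LocalRing.ResidueField.Defs
import Mathlib.Data.ZMod.Defs

/-!
# Interface for the inertia action on `H^1` of a curve (S4063)

* `PSloc` : the local statement, over a STRICTLY HENSELIAN discrete valuation ring `R`: for a smooth
  proper geometrically connected curve `C/K` with a proper nodal model `X/R`,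
  `(σ - 1)(τ - 1) = 0` on `H^1(C_Ω, ℤ/ℓ^ν)` for all `σ, τ ∈ Aut_K(Ω)`.
* `SSRed` : the statement of `S3333` (semistable reduction of curves).
-/

set_option autoImplicit false
universe u
open CategoryTheory CategoryTheory.Limits AlgebraicGeometry

namespace Groth.Agent.Sga7.H743.TraitDefs

/-- The local statement: `(σ - 1)(τ - 1) = 0` on `H^1(C_Ω, ℤ/ℓ^ν)` for a smooth proper geometrically
connected curve `C` over the fraction field of a strictly henselian discrete valuation ring which has
a proper nodal model. -/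
def PSloc : Prop :=
  ∀ (R K Ω : Type u) [CommRing R] [IsDomain R] [IsDiscreteValuationRing R]
    (_hR : EtCoh.IsStrictlyHenselianLocalRing R)
    [Field K] [Algebra R K] [IsFractionRing R K] [Field Ω] [Algebra K Ω] [IsSepClosure K Ω]
    (C X : Scheme.{u}) (f : C ⟶ Spec (CommRingCat.of K)) (p : X ⟶ Spec (CommRingCat.of R))
    (g : C ⟶ X) (_hg : IsPullback g f p (Spec.map (CommRingCat.ofHom (algebraMap R K))))
    (_hp : IsProper p) (_hN : Curv2.IsNodalFamily p)
    (_hC : Curve.IsSmoothProperCurve K C f) (_hH0 : IsIso f.appTop)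
    (ℓ : ℕ) (_hℓ : ℓ.Prime) (_hℓp : (ℓ : IsLocalRing.ResidueField R) ≠ 0) (ν : ℕ)
    [∀ σ : Ω ≃ₐ[K] Ω, PreservesFiniteLimits (EtCoh.pull (SGA7.twistAut Ω f σ))]
    (σ τ : Ω ≃ₐ[K] Ω),
    (SGA7.cohAct Ω f σ (ZMod (ℓ ^ ν)) 1 - 1) * (SGA7.cohAct Ω f τ (ZMod (ℓ ^ ν)) 1 - 1) = 0

/-- The statement of `S3333`. -/
def SSRed : Prop :=
  ∀ (R : Type u) [CommRing R] [IsDomain R] [IsDiscreteValuationRing R]
    (C : Scheme.{u}) (f : C ⟶ Spec (CommRingCat.of (FractionRing R)))
    (_hC : Curve.IsSmoothProperCurve (FractionRing R) C f) (_hH0 : IsIso f.appTop),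
    ∃ (R' : Type u) (_ : CommRing R') (_ : IsDomain R') (_ : IsDiscreteValuationRing R')
      (φ : R →+* R') (ψ : FractionRing R →+* FractionRing R'),
      Models.IsDVRExtension R φ ∧
      ψ.comp (algebraMap R (FractionRing R)) = (algebraMap R' (FractionRing R')).comp φ ∧
      Models.IsFiniteSeparable ψ ∧
      Models.HasSemistableReduction R' (pullback f (Spec.map (CommRingCat.ofHom ψ)))
        (pullback.snd f (Spec.map (CommRingCat.ofHom ψ)))

end Groth.Agent.Sga7.H743.TraitDefs
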