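import Groth.Agent.Sga4h.TameExt
import Groth.Agent.EtpbcB.StrHensEquiv

/-!
# A DVR over a strictly henselian DVR with finite separable extension of fraction fields
-/

set_option autoImplicit false
universe u
open IsLocalRing

namespace Groth.Agent.Sga7.H743.TraitSH

/-- A DVR `R'` containing a strictly henselian DVR `R`, with `Frac R'/Frac R` finite separable, is the
integral closure of `R`, hence strictly henselian. -/
theorem isStrictlyHenselian_of_dvr (R K R' K' : Type u) [CommRing R] [IsDomain R]
    [IsDiscreteValuationRing R] (hR : EtCoh.IsStrictlyHenselianLocalRing R) [Field K] [Algebra R K]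
    [IsFractionRing R K] [CommRing R'] [IsDomain R'] [IsDiscreteValuationRing R'] [Field K']
    [Algebra R' K'] [IsFractionRing R' K'] [Algebra K K'] [FiniteDimensional K K']
    [Algebra.IsSeparable K K'] (φ : R →+* R')
    (hφ : ∀ r, algebraMap R' K' (φ r) = algebraMap K K' (algebraMap R K r)) :
    EtCoh.IsStrictlyHenselianLocalRing R' := by
  let : Algebra R K' := ((algebraMap K K').comp (algebraMap R K)).toAlgebra
  have hst : IsScalarTower R K K' := IsScalarTower.of_algebraMap_eq' rfl
  have h1 := Groth.Agent.Sga4h.TameExt.isDiscreteValuationRing R K K' hR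
  have h2 := Groth.Agent.Sga4h.TameExt.isStrictlyHenselianLocalRing R K' hR
  have h4 := Groth.Agent.Sga4h.TameExt.isFractionRing R K K'
  let S := integralClosure R K'
  have hSV : ∀ x : K', x ∈ S → x ∈ (algebraMap R' K').range := by
    intro x hx
    have hx' : IsIntegral R x := hx
    have h5 : IsIntegral R' x := by
      obtain ⟨p, hp, hpx⟩ := hx'
      refine ⟨p.map φ, hp.map φ, ?_⟩
      rw [Polynomial.eval₂_map]
      have : (algebraMap R' K').comp φ = algebraMap R K' := RingHom.ext hφ
      rw [this]
      exact hpx
    obtain ⟨y, hy⟩ := IsIntegrallyClosed.isIntegral_iff.1 h5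
    exact ⟨y, hy⟩
  have hVS : ∀ r : R', algebraMap R' K' r ∈ S := by
    intro r
    by_contra hr
    obtain ⟨π, hπ⟩ := IsDiscreteValuationRing.exists_irreducible S
    have hπ0 : (π : K') ≠ 0 := fun h => hπ.ne_zero (Subtype.ext h)
    have hr0 : algebraMap R' K' r ≠ 0 := fun h => hr (h ▸ S.zero_mem)
    rcases ValuationRing.isInteger_or_isInteger S (algebraMap R' K' r) with ⟨s, hs⟩ | ⟨s, hs⟩
    · exact hr (hs ▸ s.2)
    · have hs' : (s : K') = (algebraMap R' K' r)⁻¹ := hs
      have hs0 : s ≠ 0 := by
        rintro rfl
        exact inv_ne_zero hr0 hs'.symm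
      obtain ⟨n, u, hu⟩ := IsDiscreteValuationRing.eq_unit_mul_pow_irreducible hs0 hπ
      have hinv : (π : K')⁻¹ ∈ (algebraMap R' K').range := by
        rcases n with _ | n
        · exfalso
          apply hr
          have h6 : (algebraMap R' K' r) = ((u⁻¹ : Sˣ) : S) := by
            have h7 : ((u : S) : K') * ((u⁻¹ : Sˣ) : S) = 1 := by
              rw [← MulMemClass.coe_mul, Units.mul_inv]; rfl
            rw [pow_zero, mul_one] at hu
            rw [hu] at hs'
            rw [hs'] at h7
            field_simp at h7
            exact h7.symm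
          rw [h6]
          exact ((u⁻¹ : Sˣ) : S).2
        · have h6 : (π : K')⁻¹ = ((u : S) : K') * (π : K') ^ n * algebraMap R' K' r := by
            have h7 : (s : K') * algebraMap R' K' r = 1 := by
              rw [hs', inv_mul_cancel₀ hr0]
            rw [hu] at h7
            have h8 : ((u : S) : K') * (π : K') ^ (n + 1) * algebraMap R' K' r = 1 := by
              exact_mod_cast h7
            apply inv_eq_of_mul_eq_one_right
            linear_combination h8
          rw [h6]
          refine mul_mem (mul_mem (hSV _ (u : S).2) (pow_mem (hSV _ π.2) n)) ⟨r, rfl⟩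
      -- everything is in the range
      have hall : Function.Surjective (algebraMap R' K') := by
        intro x
        obtain ⟨a, b, hb, rfl⟩ := IsFractionRing.div_surjective (A := S) x
        have hb0 : b ≠ 0 := nonZeroDivisors.ne_zero hb
        obtain ⟨m, v, hv⟩ := IsDiscreteValuationRing.eq_unit_mul_pow_irreducible hb0 hπ
        have h6 : algebraMap S K' a / algebraMap S K' b =
            (a : K') * ((v⁻¹ : Sˣ) : S) * ((π : K')⁻¹) ^ m := by
          have hb' : algebraMap S K' b ≠ 0 := by
            rw [Ne, IsFractionRing.to_map_eq_zero_iff]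
            exact hb0
          have hb'' : algebraMap S K' b = ((v : S) : K') * (π : K') ^ m := by
            rw [hv]; rfl
          have hvv : ((v : S) : K') * ((v⁻¹ : Sˣ) : S) = 1 := by
            rw [← MulMemClass.coe_mul, Units.mul_inv]; rfl
          have hπm : ((π : K')⁻¹) ^ m * (π : K') ^ m = 1 := by
            rw [← mul_pow, inv_mul_cancel₀ hπ0, one_pow]
          have ha' : algebraMap S K' a = (a : K') := rfl
          rw [div_eq_iff hb', hb'', ha']
          linear_combination (-(a : K')) * hvv * (((π : K')⁻¹) ^ m * (π : K') ^ m) - (a : K') * hπm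
        rw [h6]
        exact mul_mem (mul_mem (hSV _ a.2) (hSV _ ((v⁻¹ : Sˣ) : S).2)) (pow_mem hinv m)
      apply IsDiscreteValuationRing.not_isField R'
      exact MulEquiv.isField (Field.toIsField K')
        (RingEquiv.ofBijective (algebraMap R' K') ⟨IsFractionRing.injective R' K', hall⟩).toMulEquiv
  let θ : R' →+* S.toSubring := (algebraMap R' K').codRestrict S.toSubring hVS
  have hθ : Function.Bijective θ := by
    constructor
    · intro a b hab
      exact IsFractionRing.injective R' K' (congrArg Subtype.val hab)
    · rintro ⟨x, hx⟩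
      obtain ⟨r, hr⟩ := hSV x hx
      exact ⟨r, Subtype.ext hr⟩
  exact EtpbcB.StrHensEquiv.isStrictlyHenselian_of_ringEquiv (RingEquiv.ofBijective θ hθ).symm h2

end Groth.Agent.Sga7.H743.TraitSH
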