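import Groth.Agent.Sga7.H743.TraitCoh
import Groth.Agent.Sga7.H743.TraitAct

/-!
# The Galois action on `H^q(X_Ω, M)`: calculus

* `twistAut_one`, `twistAut_mul`, `cohAct_mul`, `cohAct_one`, `cohAct_pow`: multiplicativity in `σ`;
* `emap`: for `g : D ⟶ C` over `Spec L ⟶ Spec K`, the map `D_Ω ⟶ C_Ω`; `emap_twist` (equivariance);
* `mul_eq_zero_of_cover`: `(σ - 1)(τ - 1) = 0` on `H^q(C_Ω, M)` can be checked on a finite disjoint
  covering family `D_i` of `C_L`.
-/

set_option autoImplicit false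
set_option backward.isDefEq.respectTransparency false
set_option backward.isDefEq.respectTransparency.types false
open CategoryTheory CategoryTheory.Limits AlgebraicGeometry Opposite CategoryTheory.Abelian
universe u

namespace Groth.Agent.Sga7.H743.TraitTwist

open scoped Groth.Agent.Etcore.EtInst
open Groth.Agent.Etcore.EtInst Groth.Agent.Etcore.HpullCalc Groth.Agent.Etcore.HC
open Groth.Agent.Sga7.H743.TraitCoh Groth.Agent.Sga7.H743.TraitAct

attribute [local instance] Groth.Agent.S0101.result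

section Act

variable {K : Type u} [Field K] (Ω : Type u) [Field Ω] [Algebra K Ω]
variable {X : Scheme.{u}} (f : X ⟶ Spec (CommRingCat.of K)) (M : Type) [AddCommGroup M] (q : ℕ)

@[reassoc (attr := simp)]
theorem twistAut_fst (σ : Ω ≃ₐ[K] Ω) : SGA7.twistAut Ω f σ ≫ pullback.fst f
    (Spec.map (CommRingCat.ofHom (algebraMap K Ω))) = pullback.fst f _ := by
  simp [SGA7.twistAut]

@[reassoc (attr := simp)]
theorem twistAut_snd (σ : Ω ≃ₐ[K] Ω) : SGA7.twistAut Ω f σ ≫ pullback.snd f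
    (Spec.map (CommRingCat.ofHom (algebraMap K Ω))) = pullback.snd f _ ≫
      Spec.map (CommRingCat.ofHom (σ : Ω →+* Ω)) := by
  simp [SGA7.twistAut]

theorem twistAut_one : SGA7.twistAut Ω f (1 : Ω ≃ₐ[K] Ω) = 𝟙 _ := by
  apply pullback.hom_ext
  · simp
  · rw [twistAut_snd]
    have : CommRingCat.ofHom (((1 : Ω ≃ₐ[K] Ω) : Ω ≃ₐ[K] Ω) : Ω →+* Ω) = 𝟙 _ := by
      ext x; rfl
    rw [this, Spec.map_id]
    simp

theorem twistAut_mul (σ τ : Ω ≃ₐ[K] Ω) :
    SGA7.twistAut Ω f (σ * τ) = SGA7.twistAut Ω f σ ≫ SGA7.twistAut Ω f τ := by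
  apply pullback.hom_ext
  · simp
  · rw [twistAut_snd, Category.assoc, twistAut_snd, twistAut_snd_assoc, ← Spec.map_comp,
      ← CommRingCat.ofHom_comp]
    rfl

variable [∀ σ : Ω ≃ₐ[K] Ω, PreservesFiniteLimits (EtCoh.pull (SGA7.twistAut Ω f σ))]

theorem cohAct_one : SGA7.cohAct Ω f 1 M q = 1 := by
  refine AddMonoidHom.ext fun x => ?_
  rw [cohAct_eq_HC]
  have h1 : HC M (SGA7.twistAut Ω f 1) q x = HC M (𝟙 (SGA7.bcField Ω f)) q x := by
    rw [twistAut_one]
  rw [h1, HC_id]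
  rfl

theorem cohAct_mul (σ τ : Ω ≃ₐ[K] Ω) :
    SGA7.cohAct Ω f (σ * τ) M q = SGA7.cohAct Ω f σ M q * SGA7.cohAct Ω f τ M q := by
  refine AddMonoidHom.ext fun x => ?_
  have h := (HC_HC M _ _ _ (twistAut_mul Ω f σ τ).symm q x).symm
  rw [← cohAct_eq_HC, ← cohAct_eq_HC, ← cohAct_eq_HC] at h
  exact h

theorem cohAct_pow (σ : Ω ≃ₐ[K] Ω) (n : ℕ) :
    SGA7.cohAct Ω f (σ ^ n) M q = SGA7.cohAct Ω f σ M q ^ n := by
  induction n with
  | zero => rw [pow_zero, pow_zero, cohAct_one]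
  | succ n ih => rw [pow_succ, pow_succ, cohAct_mul, ih]

end Act

section Emap

variable {K L : Type u} [Field K] [Field L] [Algebra K L] (Ω : Type u) [Field Ω] [Algebra K Ω]
  [Algebra L Ω] [IsScalarTower K L Ω]
variable {C D : Scheme.{u}} (f : C ⟶ Spec (CommRingCat.of K)) (h : D ⟶ Spec (CommRingCat.of L))
  (g : D ⟶ C) (w : g ≫ f = h ≫ Spec.map (CommRingCat.ofHom (algebraMap K L)))

theorem spec_comp : Spec.map (CommRingCat.ofHom (algebraMap L Ω)) ≫
    Spec.map (CommRingCat.ofHom (algebraMap K L)) = Spec.map (CommRingCat.ofHom (algebraMap K Ω)) := by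
  rw [← Spec.map_comp, ← CommRingCat.ofHom_comp, ← IsScalarTower.algebraMap_eq]

/-- The map `D_Ω ⟶ C_Ω` attached to `g : D ⟶ C` over `Spec L ⟶ Spec K`. -/
noncomputable def emap : SGA7.bcField Ω h ⟶ SGA7.bcField Ω f :=
  pullback.lift (pullback.fst h _ ≫ g) (pullback.snd h _) (by
    rw [Category.assoc, w, pullback.condition_assoc, spec_comp])

@[reassoc (attr := simp)]
theorem emap_fst : emap Ω f h g w ≫ pullback.fst f _ = pullback.fst h _ ≫ g :=
  pullback.lift_fst _ _ _

@[reassoc (attr := simp)]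
theorem emap_snd : emap Ω f h g w ≫ pullback.snd f _ = pullback.snd h _ :=
  pullback.lift_snd _ _ _

theorem emap_twist (σ : Ω ≃ₐ[L] Ω) : SGA7.twistAut Ω h σ ≫ emap Ω f h g w =
    emap Ω f h g w ≫ SGA7.twistAut Ω f (σ.restrictScalars K) := by
  apply pullback.hom_ext
  · simp
  · rw [Category.assoc, emap_snd, twistAut_snd, Category.assoc, twistAut_snd, emap_snd_assoc]
    rfl

/-- The projection `C_Ω ⟶ C_L`. -/
noncomputable def cmap : SGA7.bcField Ω f ⟶ pullback f (Spec.map (CommRingCat.ofHom (algebraMap K L))) :=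
  pullback.lift (pullback.fst f _) (pullback.snd f _ ≫ Spec.map (CommRingCat.ofHom (algebraMap L Ω)))
    (by rw [Category.assoc, spec_comp, pullback.condition])

@[reassoc (attr := simp)]
theorem cmap_fst : cmap (L := L) Ω f ≫ pullback.fst f _ = pullback.fst f _ :=
  pullback.lift_fst _ _ _

@[reassoc (attr := simp)]
theorem cmap_snd : cmap (L := L) Ω f ≫ pullback.snd f _ =
    pullback.snd f _ ≫ Spec.map (CommRingCat.ofHom (algebraMap L Ω)) :=
  pullback.lift_snd _ _ _

theorem isPullback_cmap : IsPullback (cmap (L := L) Ω f) (pullback.snd f _) (pullback.snd f _)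
    (Spec.map (CommRingCat.ofHom (algebraMap L Ω))) := by
  refine IsPullback.of_right (h₁₂ := pullback.fst f _) (v₁₃ := f)
    (h₂₂ := Spec.map (CommRingCat.ofHom (algebraMap K L))) ?_ (cmap_snd Ω f)
    (IsPullback.of_hasPullback _ _)
  rw [cmap_fst, spec_comp]
  exact IsPullback.of_hasPullback _ _

theorem isPullback_emap : IsPullback (emap Ω f h g w) (pullback.fst h _) (cmap (L := L) Ω f)
    (pullback.lift g h w) := by
  refine IsPullback.of_right (h₁₂ := pullback.snd f _)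
    (v₁₃ := Spec.map (CommRingCat.ofHom (algebraMap L Ω)))
    (h₂₂ := pullback.snd f (Spec.map (CommRingCat.ofHom (algebraMap K L)))) ?_ ?_
    (isPullback_cmap (L := L) Ω f).flip
  · rw [emap_snd, pullback.lift_snd]
    exact (IsPullback.of_hasPullback _ _).flip
  · apply pullback.hom_ext
    · simp
    · simp [pullback.condition]

theorem isOpenImmersion_emap [IsOpenImmersion (pullback.lift g h w)] :
    IsOpenImmersion (emap Ω f h g w) :=
  MorphismProperty.of_isPullback (isPullback_emap Ω f h g w).flip ‹_›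

theorem range_emap (x : SGA7.bcField Ω f) : x ∈ Set.range (emap Ω f h g w) ↔
    cmap (L := L) Ω f x ∈ Set.range (pullback.lift g h w) := by
  have sq := isPullback_emap Ω f h g w
  constructor
  · rintro ⟨y, rfl⟩
    refine ⟨pullback.fst h _ y, ?_⟩
    rw [← Scheme.Hom.comp_apply, ← Scheme.Hom.comp_apply, sq.w]
  · rintro ⟨y, hy⟩
    obtain ⟨z, hz1, -⟩ := Scheme.Pullback.exists_preimage_pullback (f := cmap (L := L) Ω f)
      (g := pullback.lift g h w) x y hy.symm
    refine ⟨sq.isoPullback.inv z, ?_⟩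
    rw [← hz1, ← Scheme.Hom.comp_apply, IsPullback.isoPullback_inv_fst]

end Emap

section Cover

variable {K L : Type u} [Field K] [Field L] [Algebra K L] (Ω : Type u) [Field Ω] [Algebra K Ω]
  [Algebra L Ω] [IsScalarTower K L Ω]
variable {C : Scheme.{u}} (f : C ⟶ Spec (CommRingCat.of K)) (M : Type) [AddCommGroup M] (q : ℕ)
  [∀ σ : Ω ≃ₐ[K] Ω, PreservesFiniteLimits (EtCoh.pull (SGA7.twistAut Ω f σ))]

/-- `(σ - 1)(τ - 1) = 0` on `H^q(C_Ω, M)` can be checked on the members of a finite disjoint open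
covering of `C_L`. -/
theorem mul_eq_zero_of_cover {ι : Type u} [Finite ι] (D : ι → Scheme.{u})
    (h : ∀ i, D i ⟶ Spec (CommRingCat.of L)) (g : ∀ i, D i ⟶ C)
    (w : ∀ i, g i ≫ f = h i ≫ Spec.map (CommRingCat.ofHom (algebraMap K L)))
    (ho : ∀ i, IsOpenImmersion (pullback.lift (g i) (h i) (w i)))
    (hd : ∀ i i', i ≠ i' → Disjoint (Set.range (pullback.lift (g i) (h i) (w i)))
      (Set.range (pullback.lift (g i') (h i') (w i'))))
    (hc : ∀ x : ↥(pullback f (Spec.map (CommRingCat.ofHom (algebraMap K L)))),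
      ∃ i, x ∈ Set.range (pullback.lift (g i) (h i) (w i)))
    (σ τ : Ω ≃ₐ[L] Ω)
    (hz : ∀ i, (SGA7.cohAct Ω (h i) σ M q - 1) * (SGA7.cohAct Ω (h i) τ M q - 1) = 0) :
    (SGA7.cohAct Ω f (σ.restrictScalars K) M q - 1) *
      (SGA7.cohAct Ω f (τ.restrictScalars K) M q - 1) = 0 := by
  refine AddMonoidHom.ext fun (x : HH (SGA7.bcField Ω f) (EtCoh.const (SGA7.bcField Ω f) M) q) => ?_
  have key : HC M (SGA7.twistAut Ω f (σ.restrictScalars K)) q
        (HC M (SGA7.twistAut Ω f (τ.restrictScalars K)) q x - x) -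
      (HC M (SGA7.twistAut Ω f (τ.restrictScalars K)) q x - x) = 0 := by
    refine eq_zero_of_cover M q _ (fun i => SGA7.bcField Ω (h i))
      (fun i => emap Ω f (h i) (g i) (w i)) (fun i => ?_) (fun i i' hi => ?_) (fun y => ?_) _
      (fun i => ?_)
    · have := ho i
      exact isOpenImmersion_emap Ω f (h i) (g i) (w i)
    · rw [Set.disjoint_left]
      intro y hy hy'
      exact Set.disjoint_left.1 (hd i i' hi) ((range_emap Ω f _ _ _ y).1 hy)
        ((range_emap Ω f _ _ _ y).1 hy')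
    · obtain ⟨i, hi⟩ := hc (cmap (L := L) Ω f y)
      exact ⟨i, (range_emap Ω f _ _ _ y).2 hi⟩
    · have hcomm : ∀ (s : Ω ≃ₐ[L] Ω) (y : HH (SGA7.bcField Ω f)
          (EtCoh.const (SGA7.bcField Ω f) M) q),
          HC M (emap Ω f (h i) (g i) (w i)) q (HC M (SGA7.twistAut Ω f (s.restrictScalars K)) q y) =
            HC M (SGA7.twistAut Ω (h i) s) q (HC M (emap Ω f (h i) (g i) (w i)) q y) := by
        intro s y
        rw [HC_HC M _ _ _ rfl, HC_HC M _ _ _ (emap_twist Ω f (h i) (g i) (w i) s)]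
      have hzi := DFunLike.congr_fun (hz i) (HC M (emap Ω f (h i) (g i) (w i)) q x)
      have hzi' : HC M (SGA7.twistAut Ω (h i) σ) q
            (HC M (SGA7.twistAut Ω (h i) τ) q (HC M (emap Ω f (h i) (g i) (w i)) q x) -
              HC M (emap Ω f (h i) (g i) (w i)) q x) -
          (HC M (SGA7.twistAut Ω (h i) τ) q (HC M (emap Ω f (h i) (g i) (w i)) q x) -
              HC M (emap Ω f (h i) (g i) (w i)) q x) = 0 := by
        rw [← cohAct_eq_HC, ← cohAct_eq_HC]
        exact hzi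
      rw [map_sub, hcomm, map_sub, hcomm]
      exact hzi'
  rw [← cohAct_eq_HC, ← cohAct_eq_HC] at key
  exact key

end Cover

end Groth.Agent.Sga7.H743.TraitTwist
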